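import Cfsg.Agent.Lib.Blocks.Star.Nilpotent
import Cfsg.Agent.Lib.Blocks.BrauerFeit

/-!
# A block with a central cyclic defect group
-/

namespace CfsgLib.Blocks.DihBlock

open Cfsg CfsgLib.CharTheory
open scoped ComplexConjugate

set_option linter.unusedVariables false
set_option linter.unusedSimpArgs false
set_option linter.style.haveILetI false
set_option linter.unusedSectionVars false

universe u

variable {p : ℕ} {M : Ideal AlgInt} {K : Type u} [Group K] [Fintype K]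

/-- The root of unity by which a central element acts. -/
noncomputable def cval (z : K) (φ : IrrCharacter K) : ℂ := (φ : K → ℂ) z / (φ : K → ℂ) 1

theorem conj_root {w : ℂ} {n : ℕ} (h : w ^ n = 1) (hn : n ≠ 0) : w * conj w = 1 := by
  rw [Complex.mul_conj', Complex.norm_eq_one_of_pow_eq_one h hn, Complex.ofReal_one, one_pow]

theorem cval_pow {z : K} (hz : z ∈ Subgroup.center K) (φ : IrrCharacter K) (i : ℕ) :
    (φ : K → ℂ) (z ^ i) = cval z φ ^ i * (φ : K → ℂ) 1 := by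
  rw [cval, ← central_pow_value hz φ i, div_mul_cancel₀ _ (irr_one_ne_zero φ)]

theorem cval_mul {z : K} (hz : z ∈ Subgroup.center K) (φ : IrrCharacter K) (i : ℕ) (g : K) :
    (φ : K → ℂ) (z ^ i * g) = cval z φ ^ i * (φ : K → ℂ) g := by
  rw [central_value_mul ((Subgroup.center K).pow_mem hz i) φ g, cval, central_pow_value hz φ i]

theorem regS_pos (p : ℕ) (hp : p ≠ 1) (φ : IrrCharacter K) :
    ∃ r : ℝ, 0 < r ∧ regS p (φ : K → ℂ) (φ : K → ℂ) = (r : ℂ) := by
  classical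
  refine ⟨∑ y ∈ Finset.univ.filter (fun y => ¬ p ∣ orderOf y), Complex.normSq ((φ : K → ℂ) y),
    ?_, ?_⟩
  · refine lt_of_lt_of_le (Complex.normSq_pos.2 (irr_one_ne_zero φ))
      (Finset.single_le_sum (f := fun y => Complex.normSq ((φ : K → ℂ) y))
        (fun y _ => Complex.normSq_nonneg _) (Finset.mem_filter.2 ⟨Finset.mem_univ _, ?_⟩))
    simpa using hp
  · rw [← sum_reg_norm, Complex.ofReal_sum]
    exact Finset.sum_congr rfl fun y _ => Complex.mul_conj _

variable {z : K} {N : ℕ} {b : Set (IrrCharacter K)}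

/-- All members agree on the regular elements and number the order of the defect group. -/
theorem central_cyclic_reg (hM : IsPModular p M) (hz : z ∈ Subgroup.center K)
    (hord : orderOf z = N) (hb : IsPBlock M b) (hN : p ^ blockDefect p b = N) :
    (bset b).card = N ∧ ∀ θ ∈ b,
      (∀ φ ∈ b, ∀ g : K, ¬ p ∣ orderOf g → (φ : K → ℂ) g = (θ : K → ℂ) g) ∧
      (p : ℂ) ^ blockDefect p b * regS p (θ : K → ℂ) (θ : K → ℂ) = (Nat.card K : ℂ) := by
  classical
  haveI : Fact p.Prime := ⟨hM.1⟩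
  have hN0 : N ≠ 0 := hN ▸ pow_ne_zero _ hM.1.ne_zero
  have hZ : Subgroup.zpowers z ≤ Subgroup.center K := Subgroup.zpowers_le.2 hz
  haveI := normal_of_central hZ
  have hl : blockRank p b = 1 := blockRank_pcent hM
    (IsPGroup.of_card (n := blockDefect p b) (by rw [Nat.card_zpowers, hord, hN]))
    (sup_cent_of_central hZ) hb (by rw [Nat.card_zpowers, hord, hN])
  have hK : (Nat.card K : ℂ) ≠ 0 := Nat.cast_ne_zero.2 Nat.card_pos.ne'
  have hpp : ∀ i, ∃ k : ℕ, orderOf (z ^ i) = p ^ k := fun i =>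
    ((Nat.dvd_prime_pow hM.1).1 (hN ▸ hord ▸ orderOf_pow_dvd i)).imp fun k hk => hk.2
  -- orthogonal rows
  have horth : ∀ i < N, ∀ j < N, i ≠ j →
      ∑ φ ∈ bset b, (φ : K → ℂ) (z ^ i) * (φ : K → ℂ) (z ^ j)⁻¹ = 0 := by
    intro i hi j hj hne
    refine block_orth hM hb ⟨1, mul_one _, Commute.one_right _, hpp i, by simpa using hM.1.ne_one⟩
      ⟨1, mul_one _, Commute.one_right _, hpp j, by simpa using hM.1.ne_one⟩ fun hc => hne ?_
    obtain ⟨t, ht⟩ := isConj_iff.1 hc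
    rw [Subgroup.mem_center_iff.1 ((Subgroup.center K).pow_mem hz i) t,
      mul_inv_cancel_right] at ht
    exact pow_injOn_Iio_orderOf (by rw [Set.mem_Iio, hord]; exact hi)
      (by rw [Set.mem_Iio, hord]; exact hj) ht
  obtain ⟨θ₀, hθ₀⟩ := block_nonempty hM hb
  have hindep : LinearIndependent ℂ (fun (i : Fin N) (φ : bset b) => (φ.1 : K → ℂ) (z ^ (i : ℕ))) := by
    rw [Fintype.linearIndependent_iff]
    intro c hc j
    have h1 : ∑ φ : bset b, (∑ i, c i * (φ.1 : K → ℂ) (z ^ (i : ℕ))) *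
        (φ.1 : K → ℂ) (z ^ (j : ℕ))⁻¹ = 0 := Finset.sum_eq_zero fun φ _ => by
      have := congrFun hc φ
      simp only [Finset.sum_apply, Pi.smul_apply, smul_eq_mul, Pi.zero_apply] at this
      rw [this, zero_mul]
    simp only [Finset.sum_mul, mul_assoc] at h1
    rw [Finset.sum_comm, Finset.sum_eq_single j, ← Finset.mul_sum,
      Finset.sum_coe_sort (bset b) (fun φ : IrrCharacter K =>
        (φ : K → ℂ) (z ^ (j : ℕ)) * (φ : K → ℂ) (z ^ (j : ℕ))⁻¹)] at h1
    · refine (mul_eq_zero.1 h1).resolve_right fun h0 => ?_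
      have e : ∑ φ ∈ bset b, (φ : K → ℂ) (z ^ (j : ℕ)) * (φ : K → ℂ) (z ^ (j : ℕ))⁻¹ =
          ((∑ φ ∈ bset b, Complex.normSq ((φ : K → ℂ) (z ^ (j : ℕ))) : ℝ) : ℂ) := by
        rw [Complex.ofReal_sum]
        exact Finset.sum_congr rfl fun φ _ => by rw [← irr_conjInv, Complex.mul_conj]
      rw [e, Complex.ofReal_eq_zero, Finset.sum_eq_zero_iff_of_nonneg
        fun φ _ => Complex.normSq_nonneg _] at h0
      have h2 := cval_pow hz θ₀ (j : ℕ)
      rw [Complex.normSq_eq_zero.1 (h0 θ₀ (mem_bset.2 hθ₀))] at h2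
      rcases mul_eq_zero.1 h2.symm with h3 | h3
      · have h4 := central_value_pow hz θ₀
        rw [show (θ₀ : K → ℂ) z / (θ₀ : K → ℂ) 1 = cval z θ₀ from rfl, hord,
          pow_eq_zero_iff'.1 h3 |>.1, zero_pow hN0] at h4
        exact zero_ne_one h4
      · exact irr_one_ne_zero θ₀ h3
    · intro i _ hij
      rw [← Finset.mul_sum, Finset.sum_coe_sort (bset b) (fun φ : IrrCharacter K =>
        (φ : K → ℂ) (z ^ (i : ℕ)) * (φ : K → ℂ) (z ^ (j : ℕ))⁻¹),
        horth i i.2 j j.2 (fun e => hij (Fin.ext e)), mul_zero]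
    · exact fun h => absurd (Finset.mem_univ j) h
  have hge : N ≤ (bset b).card := by
    have := hindep.fintype_card_le_finrank
    simpa using this
  -- the diagonal of the projection
  have hq' : ∀ φ : IrrCharacter K, ∃ q : ℤ, φ ∈ b →
      (p : ℂ) ^ blockDefect p b * regS p (φ : K → ℂ) (φ : K → ℂ) = (Nat.card K : ℂ) * q := by
    intro φ
    by_cases hφ : φ ∈ b
    · obtain ⟨q, hq, -⟩ := exists_int_proj hM hb hφ hφ
      exact ⟨q, fun _ => hq⟩
    · exact ⟨0, fun h => absurd h hφ⟩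
  choose Q hQdef using hq'
  have hq : ∀ φ ∈ bset b, 1 ≤ Q φ := by
    intro φ hφ
    obtain ⟨r, hr, he⟩ := regS_pos (K := K) p hM.1.ne_one φ
    have h := hQdef φ (mem_bset.1 hφ)
    rw [he] at h
    have h' : (p : ℝ) ^ blockDefect p b * r = (Nat.card K : ℝ) * (Q φ : ℝ) := by
      exact_mod_cast h
    have h2 : (0 : ℝ) < (Q φ : ℝ) := by
      have : (0 : ℝ) < (p : ℝ) ^ blockDefect p b * r :=
        mul_pos (pow_pos (Nat.cast_pos.2 hM.1.pos) _) hr
      rw [h'] at this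
      exact (mul_pos_iff_of_pos_left (Nat.cast_pos.2 Nat.card_pos)).1 this
    exact_mod_cast h2
  have hsum : ∑ φ ∈ bset b, Q φ = (N : ℤ) := by
    have h := card_mul_blockRank hM hb
    rw [hl, Nat.cast_one, mul_one] at h
    apply Int.cast_injective (α := ℂ)
    apply mul_left_cancel₀ hK
    push_cast
    rw [Finset.mul_sum, Finset.sum_congr rfl fun φ hφ =>
      (hQdef φ (mem_bset.1 hφ)).symm, ← Finset.mul_sum, ← h,
      show ((N : ℕ) : ℂ) = (p : ℂ) ^ blockDefect p b by rw [← hN, Nat.cast_pow], mul_comm]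
  have hone : ∀ φ ∈ bset b, 1 ≤ Q φ := hq
  have hle : ((bset b).card : ℤ) ≤ (N : ℤ) := by
    rw [← hsum, Finset.card_eq_sum_ones, Nat.cast_sum]
    exact Finset.sum_le_sum fun φ hφ => by simpa using hone φ hφ
  have hcard : (bset b).card = N := by omega
  have hQ : ∀ φ ∈ bset b, Q φ = 1 := by
    intro φ hφ
    by_contra hne
    have : ∑ ψ ∈ bset b, (1 : ℤ) < ∑ ψ ∈ bset b, Q ψ :=
      Finset.sum_lt_sum hone ⟨φ, hφ, lt_of_le_of_ne (hone φ hφ) (Ne.symm hne)⟩
    rw [hsum, Finset.sum_const, nsmul_eq_mul, mul_one, hcard] at this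
    exact lt_irrefl _ this
  have hnorm : ∀ φ ∈ b, (p : ℂ) ^ blockDefect p b * regS p (φ : K → ℂ) (φ : K → ℂ) =
      (Nat.card K : ℂ) := fun φ hφ => by
    rw [hQdef φ hφ, hQ φ (mem_bset.2 hφ), Int.cast_one, mul_one]
  refine ⟨hcard, fun θ hθ => ⟨fun φ hφ g hg => ?_, hnorm θ hθ⟩⟩
  -- proportionality on the regular elements
  have hθne : pRegularPart p (θ : K → ℂ) ≠ 0 := fun e => by
    have := congrFun e 1
    simp [pRegularPart_apply, hM.1.ne_one, irr_one_ne_zero θ] at this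
  set W := Submodule.span ℂ ((fun χ : IrrCharacter K => pRegularPart p (χ : K → ℂ)) '' b)
  obtain ⟨c, hc⟩ := (finrank_eq_one_iff_of_nonzero'
    (⟨_, Submodule.subset_span ⟨θ, hθ, rfl⟩⟩ : W) (fun e => hθne (congrArg Subtype.val e))).1
    (show Module.finrank ℂ W = 1 from hl) ⟨_, Submodule.subset_span ⟨φ, hφ, rfl⟩⟩
  have hprop : ∀ g : K, ¬ p ∣ orderOf g → (φ : K → ℂ) g = c * (θ : K → ℂ) g := fun g hg => by
    have := congrFun (congrArg Subtype.val hc) g
    simp only [SetLike.val_smul, Pi.smul_apply, smul_eq_mul, pRegularPart_apply, if_neg hg] at this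
    exact this.symm
  have hc1 : c = ((charDegree (φ : K → ℂ) : ℝ) / (charDegree (θ : K → ℂ) : ℝ) : ℝ) := by
    have h1 := hprop 1 (by simpa using hM.1.ne_one)
    rw [← irr_charDegree_cast φ, ← irr_charDegree_cast θ] at h1
    push_cast
    rw [h1, mul_div_cancel_right₀ _ (Nat.cast_ne_zero.2 (irr_charDegree_pos θ).ne')]
  set r : ℝ := (charDegree (φ : K → ℂ) : ℝ) / (charDegree (θ : K → ℂ) : ℝ) with hr
  have hrpos : 0 < r := div_pos (Nat.cast_pos.2 (irr_charDegree_pos φ))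
    (Nat.cast_pos.2 (irr_charDegree_pos θ))
  have hscale : regS p (φ : K → ℂ) (φ : K → ℂ) =
      ((r * r : ℝ) : ℂ) * regS p (θ : K → ℂ) (θ : K → ℂ) := by
    rw [← sum_reg_norm, ← sum_reg_norm, Finset.mul_sum]
    refine Finset.sum_congr rfl fun y hy => ?_
    rw [hprop y (Finset.mem_filter.1 hy).2, hc1, map_mul, Complex.conj_ofReal]
    push_cast
    ring
  have hrr : r * r = 1 := by
    have h1 := hnorm φ hφ
    rw [hscale, ← mul_assoc, mul_comm ((p : ℂ) ^ _) _, mul_assoc, hnorm θ hθ] at h1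
    have h2 : ((r * r : ℝ) : ℂ) = 1 := mul_right_cancel₀ hK (h1.trans (one_mul _).symm)
    exact_mod_cast h2
  have hr1 : r = 1 := by nlinarith
  rw [hprop g hg, hc1, hr1, Complex.ofReal_one, one_mul]

/-- The matrix of the central values is unitary up to a scalar. -/
theorem central_cyclic_dual (hM : IsPModular p M) (hz : z ∈ Subgroup.center K)
    (hord : orderOf z = N) (hb : IsPBlock M b) (hN : p ^ blockDefect p b = N)
    {φ φ' : IrrCharacter K} (hφ : φ ∈ b) (hφ' : φ' ∈ b) [Decidable (φ = φ')] :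
    ∑ i ∈ Finset.range N, cval z φ ^ i * conj (cval z φ') ^ i =
      if φ = φ' then (N : ℂ) else 0 := by
  classical
  obtain ⟨hcard, hreg⟩ := central_cyclic_reg hM hz hord hb hN
  obtain ⟨θ, hθ⟩ := block_nonempty hM hb
  have hone : ∀ χ ∈ b, (χ : K → ℂ) 1 = (θ : K → ℂ) 1 := fun χ hχ =>
    (hreg θ hθ).1 χ hχ 1 (by simpa using hM.1.ne_one)
  have hN0 : N ≠ 0 := hN ▸ pow_ne_zero _ hM.1.ne_zero
  have hpw : ∀ χ : IrrCharacter K, cval z χ ^ N = 1 := fun χ => hord ▸ central_value_pow hz χ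
  obtain ⟨e⟩ : Nonempty (Fin N ≃ bset b) :=
    ⟨Fintype.equivOfCardEq (by rw [Fintype.card_fin, Fintype.card_coe, hcard])⟩
  set U : Matrix (Fin N) (Fin N) ℂ := Matrix.of fun i j => cval z (e j).1 ^ (i : ℕ) with hU
  set V : Matrix (Fin N) (Fin N) ℂ :=
    Matrix.of fun j i => (N : ℂ)⁻¹ * conj (cval z (e j).1) ^ (i : ℕ) with hV
  have hUV : U * V = 1 := by
    ext i k
    rw [Matrix.mul_apply]
    simp only [hU, hV, Matrix.of_apply, Matrix.one_apply]
    rw [show ∑ j, cval z (e j).1 ^ (i : ℕ) * ((N : ℂ)⁻¹ * conj (cval z (e j).1) ^ (k : ℕ)) =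
      (N : ℂ)⁻¹ * ∑ φ ∈ bset b, cval z φ ^ (i : ℕ) * conj (cval z φ) ^ (k : ℕ) by
      rw [Finset.mul_sum, ← Finset.sum_coe_sort (bset b)]
      exact Fintype.sum_equiv e _ _ fun j => by ring]
    split_ifs with hik
    · subst hik
      rw [Finset.sum_congr rfl fun φ _ => by
        rw [← mul_pow, conj_root (hpw φ) hN0, one_pow], Finset.sum_const, hcard, nsmul_eq_mul,
        mul_one, inv_mul_cancel₀ (Nat.cast_ne_zero.2 hN0)]
    · have h0 : ∑ φ ∈ bset b, (φ : K → ℂ) (z ^ (i : ℕ)) * conj ((φ : K → ℂ) (z ^ (k : ℕ))) =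
          ((θ : K → ℂ) 1 * conj ((θ : K → ℂ) 1)) *
            ∑ φ ∈ bset b, cval z φ ^ (i : ℕ) * conj (cval z φ) ^ (k : ℕ) := by
        rw [Finset.mul_sum]
        refine Finset.sum_congr rfl fun χ hχ => ?_
        rw [cval_pow hz, cval_pow hz, hone χ (mem_bset.1 hχ), map_mul, map_pow]
        ring
      have horth : ∑ φ ∈ bset b, (φ : K → ℂ) (z ^ (i : ℕ)) * conj ((φ : K → ℂ) (z ^ (k : ℕ))) =
          0 := by
        simp only [irr_conjInv]
        have hpp : ∀ i, ∃ m : ℕ, orderOf (z ^ i) = p ^ m := fun i =>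
          ((Nat.dvd_prime_pow hM.1).1 (hN ▸ hord ▸ orderOf_pow_dvd i)).imp fun m hm => hm.2
        refine block_orth hM hb
          ⟨1, mul_one _, Commute.one_right _, hpp i, by simpa using hM.1.ne_one⟩
          ⟨1, mul_one _, Commute.one_right _, hpp k, by simpa using hM.1.ne_one⟩ fun hc => hik ?_
        obtain ⟨t, ht⟩ := isConj_iff.1 hc
        rw [Subgroup.mem_center_iff.1 ((Subgroup.center K).pow_mem hz _) t,
          mul_inv_cancel_right] at ht
        exact Fin.ext (pow_injOn_Iio_orderOf (by rw [Set.mem_Iio, hord]; exact i.2)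
          (by rw [Set.mem_Iio, hord]; exact k.2) ht)
      rw [horth] at h0
      rw [(mul_eq_zero.1 h0.symm).resolve_left (mul_ne_zero (irr_one_ne_zero θ)
        ((map_ne_zero (starRingEnd ℂ)).2 (irr_one_ne_zero θ))), mul_zero]
  have hVU : V * U = 1 := mul_eq_one_comm.1 hUV
  have h := congrFun (congrFun hVU (e.symm ⟨φ', mem_bset.2 hφ'⟩)) (e.symm ⟨φ, mem_bset.2 hφ⟩)
  simp only [Matrix.mul_apply, hU, hV, Matrix.of_apply, Equiv.apply_symm_apply,
    Matrix.one_apply, EmbeddingLike.apply_eq_iff_eq, Subtype.mk.injEq, mul_assoc] at h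
  rw [← Finset.mul_sum] at h
  rw [Finset.sum_range]
  have h' : ∑ i : Fin N, cval z φ ^ (i : ℕ) * conj (cval z φ') ^ (i : ℕ) =
      (N : ℂ) * if φ' = φ then 1 else 0 := by
    rw [← h, ← mul_assoc, mul_inv_cancel₀ (Nat.cast_ne_zero.2 hN0), one_mul]
    exact Finset.sum_congr rfl fun i _ => mul_comm _ _
  rw [h']
  by_cases hφφ : φ = φ'
  · rw [if_pos hφφ, if_pos hφφ.symm, mul_one]
  · rw [if_neg hφφ, if_neg (Ne.symm hφφ), mul_zero]

/-- A member of such a block has a unit value at a regular element, and its degree is as large as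
possible. -/
theorem central_cyclic_unit (hM : IsPModular p M) (hz : z ∈ Subgroup.center K)
    (hord : orderOf z = N) (hb : IsPBlock M b) (hN : p ^ blockDefect p b = N)
    {θ : IrrCharacter K} (hθ : θ ∈ b) :
    MemLocalRing M ((Nat.card K : ℂ) / ((N : ℂ) * (θ : K → ℂ) 1)) ∧
      ∃ c : K, ¬ p ∣ orderOf c ∧ res hM ((θ : K → ℂ) c) ≠ 0 := by
  classical
  haveI := res_isDomain hM
  obtain ⟨hcard, hreg⟩ := central_cyclic_reg hM hz hord hb hN
  have hN0 : N ≠ 0 := hN ▸ pow_ne_zero _ hM.1.ne_zero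
  have hone : ∀ χ ∈ b, (χ : K → ℂ) 1 = (θ : K → ℂ) 1 := fun χ hχ =>
    (hreg θ hθ).1 χ hχ 1 (by simpa using hM.1.ne_one)
  obtain ⟨φ, hφ, h0⟩ := exists_height_zero hM hb
  have hdeg : charDegree (φ : K → ℂ) = charDegree (θ : K → ℂ) := by
    have := hone φ hφ
    rw [← irr_charDegree_cast φ, ← irr_charDegree_cast θ] at this
    exact_mod_cast this
  have hv := minDv_le_card hM hb
  set ν := (Nat.card K).factorization p with hν
  set K' := Nat.card K / p ^ ν with hK'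
  set d := blockDefect p b with hd
  set v := dv p (θ : K → ℂ) with hvdef
  have hvm : v = minDv p b := by rw [← h0, hvdef, dv, dv, hdeg]
  set r := charDegree (θ : K → ℂ) / p ^ v with hr
  have hru : ¬ p ∣ r := Nat.not_dvd_ordCompl hM.1 (irr_charDegree_pos θ).ne'
  have hKeq : (Nat.card K : ℂ) = (N : ℂ) * (p : ℂ) ^ v * (K' : ℂ) := by
    rw [← hN]
    push_cast
    rw [← pow_add, hd, blockDefect_eq, hvm, Nat.sub_add_cancel hv]
    exact_mod_cast (Nat.ordProj_mul_ordCompl_eq_self (Nat.card K) p).symm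
  have hθ1 : (θ : K → ℂ) 1 = (p : ℂ) ^ v * (r : ℂ) := by
    rw [← irr_charDegree_cast θ]
    exact_mod_cast (Nat.ordProj_mul_ordCompl_eq_self (charDegree (θ : K → ℂ)) p).symm
  have hratio : (Nat.card K : ℂ) / ((N : ℂ) * (θ : K → ℂ) 1) = (K' : ℂ) * (r : ℂ)⁻¹ := by
    have hp0 : (p : ℂ) ^ v ≠ 0 := pow_ne_zero _ (Nat.cast_ne_zero.2 hM.1.ne_zero)
    have hr0 : (r : ℂ) ≠ 0 := Nat.cast_ne_zero.2 fun e => hru (e ▸ dvd_zero p)
    have hNc : (N : ℂ) ≠ 0 := Nat.cast_ne_zero.2 hN0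
    rw [hKeq, hθ1]
    field_simp
  refine ⟨hratio ▸ (loc hM).mul_mem (memRing_natCast hM _) (natCast_inv_mem hM hru), ?_⟩
  obtain ⟨g, hg⟩ := exists_defectClass hM hb
  have hgr : ¬ p ∣ orderOf g := by
    intro hs
    apply hg.2.1
    have h1 := weak_orth_conj hM hb (x := (1 : K)) (y := g) (by simpa using hM.1.ne_one) hs
    rw [blockCoeff, finsum_mem_bset, h1, mul_zero]
    exact memIdeal_zero hM
  have hcoef : blockCoeff b g =
      ((Nat.card K : ℂ) / ((N : ℂ) * (θ : K → ℂ) 1))⁻¹ * (θ : K → ℂ) g⁻¹ := by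
    rw [blockCoeff, finsum_mem_bset, Finset.sum_congr rfl fun χ hχ => by
      rw [hone χ (mem_bset.1 hχ), (hreg θ hθ).1 χ (mem_bset.1 hχ) g hgr],
      Finset.sum_const, hcard, nsmul_eq_mul, irr_conjInv, inv_div]
    ring
  refine ⟨g⁻¹, by rwa [orderOf_inv], fun h0' => hg.2.1 ?_⟩
  have hu : MemLocalRing M ((Nat.card K : ℂ) / ((N : ℂ) * (θ : K → ℂ) 1))⁻¹ := by
    rw [hratio, mul_inv, inv_inv]
    refine (loc hM).mul_mem ?_ (memRing_natCast hM _)
    exact natCast_inv_mem hM (Nat.not_dvd_ordCompl hM.1 Nat.card_pos.ne')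
  rw [hcoef]
  exact memIdeal_mul_left hM hu ((res_eq_zero_iff hM (memRing_irr hM θ g⁻¹)).1 h0')

end CfsgLib.Blocks.DihBlock
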