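import Cfsg.Agent.Lib.Blocks.Dihedral.Columns

/-!
# The shape of integral columns with the Gram matrix of a dihedral defect group
-/

namespace CfsgLib.Blocks.DihBlock

set_option linter.unusedVariables false
set_option linter.unusedSectionVars false

open CfsgLib.Blocks.Dihedral

variable {ι κ : Type*} [DecidableEq ι] [Fintype κ] [DecidableEq κ]
  {S E : Finset ι} {X : ι → ℤ} {Y : κ → ι → ℤ}

/-- The hypotheses on the columns. -/
structure Gram (S E : Finset ι) (X : ι → ℤ) (Y : κ → ι → ℤ) : Prop where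
  sub : E ⊆ S
  par : ∀ i ∈ S, (i ∈ E ↔ Odd (X i))
  ne : E.Nonempty
  XX : ∑ i ∈ S, X i * X i = 4
  XY : ∀ j, ∑ i ∈ S, X i * Y j i = 2
  YY : ∀ j k, ∑ i ∈ S, Y j i * Y k i = if j = k then 3 else 2

theorem Gram.x_vals (g : Gram S E X Y) :
    E.card = 4 ∧ (∀ i ∈ E, X i * X i = 1) ∧ ∀ i ∈ S, i ∉ E → X i = 0 := by
  have hge : ∀ i ∈ E, 1 ≤ X i * X i := fun i hi => by
    obtain ⟨k, hk⟩ := (g.par i (g.sub hi)).1 hi
    have h : X i ≠ 0 := by omega
    have := mul_self_pos.2 h
    omega
  have hle : ∀ i ∈ S, -2 ≤ X i ∧ X i ≤ 2 := fun i hi => by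
    have h1 := Finset.single_le_sum (f := fun j => X j * X j) (fun j _ => mul_self_nonneg (X j)) hi
    rw [g.XX] at h1
    exact ⟨by nlinarith, by nlinarith⟩
  have h1 : ∀ i ∈ E, X i * X i = 1 := fun i hi => by
    obtain ⟨h2, h3⟩ := hle i (g.sub hi)
    obtain ⟨k, hk⟩ := (g.par i (g.sub hi)).1 hi
    have hk' : k = -1 ∨ k = 0 := by omega
    rcases hk' with rfl | rfl <;> simp [hk]
  have h0 : ∀ i ∈ S, i ∉ E → X i * X i = 0 ∨ X i * X i = 4 := fun i hi hiE => by
    obtain ⟨h2, h3⟩ := hle i hi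
    obtain ⟨k, hk⟩ := Int.not_odd_iff_even.1 fun h => hiE ((g.par i hi).2 h)
    have hk' : k = -1 ∨ k = 0 ∨ k = 1 := by omega
    rcases hk' with rfl | rfl | rfl <;> simp [hk]
  have hEc : ∑ i ∈ E, X i * X i = (E.card : ℤ) := by
    rw [Finset.sum_congr rfl h1]; simp
  have hpos := g.ne.card_pos
  have hsplit := Finset.sum_sdiff g.sub (f := fun i => X i * X i)
  rw [g.XX, hEc] at hsplit
  have hz : ∀ i ∈ S \ E, X i * X i = 0 := fun i hi => by
    rcases h0 i (Finset.mem_sdiff.1 hi).1 (Finset.mem_sdiff.1 hi).2 with h | h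
    · exact h
    · exfalso
      have h4 := Finset.single_le_sum (f := fun j => X j * X j)
        (fun j _ => mul_self_nonneg (X j)) hi
      omega
  rw [Finset.sum_eq_zero hz, zero_add] at hsplit
  exact ⟨by omega, h1, fun i hi hiE =>
    mul_self_eq_zero.1 (hz i (Finset.mem_sdiff.2 ⟨hi, hiE⟩))⟩

/-- One column. -/
theorem Gram.column (g : Gram S E X Y) (j : κ) :
    ∃ (P : Finset ι) (s : ι) (f : ℤ), P ⊆ E ∧ P.card = 2 ∧ s ∈ S ∧ s ∉ E ∧ (f = 1 ∨ f = -1) ∧
      (∀ i ∈ P, Y j i = X i) ∧ Y j s = f ∧ ∀ i ∈ S, i ∉ P → i ≠ s → Y j i = 0 := by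
  obtain ⟨hE, hX1, hX0⟩ := g.x_vals
  have hy3 : ∑ i ∈ S, Y j i * Y j i = 3 := by simpa using g.YY j j
  have hu : ∀ i ∈ S, Y j i ≠ 0 → Y j i * Y j i = 1 := fun i hi h0 => by
    have h1 := Finset.single_le_sum (f := fun t => Y j t * Y j t)
      (fun t _ => mul_self_nonneg (Y j t)) hi
    simp only [hy3] at h1
    have h2 : -1 ≤ Y j i ∧ Y j i ≤ 1 := ⟨by nlinarith, by nlinarith⟩
    rcases h2 with ⟨a, b⟩
    interval_cases (Y j i) <;> simp_all
  set N := S.filter fun i => Y j i ≠ 0 with hN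
  have hNc : N.card = 3 := by
    have : (N.card : ℤ) = 3 := by
      rw [← hy3, ← Finset.sum_filter_of_ne (p := fun i => Y j i ≠ 0)
        (fun i _ hi e => hi (by simp [e])), ← hN, Finset.card_eq_sum_ones, Nat.cast_sum]
      exact Finset.sum_congr rfl fun i hi => by
        rw [hu i (Finset.mem_filter.1 hi).1 (Finset.mem_filter.1 hi).2]; rfl
    exact_mod_cast this
  set Q := E.filter fun i => Y j i ≠ 0 with hQ
  have h2 : ∑ i ∈ Q, X i * Y j i = 2 := by
    rw [← g.XY j]
    refine Finset.sum_subset ((Finset.filter_subset _ _).trans g.sub) fun i hi hiQ => ?_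
    by_cases hiE : i ∈ E
    · have : Y j i = 0 := by
        by_contra h
        exact hiQ (Finset.mem_filter.2 ⟨hiE, h⟩)
      rw [this, mul_zero]
    · rw [hX0 i hi hiE, zero_mul]
  have hpm : ∀ i ∈ Q, X i * Y j i = 1 ∨ X i * Y j i = -1 := fun i hi => by
    obtain ⟨hiE, hi0⟩ := Finset.mem_filter.1 hi
    exact units (by rw [mul_mul_mul_comm, hX1 i hiE, hu i (g.sub hiE) hi0, mul_one])
  have hle : ∀ i ∈ Q, X i * Y j i ≤ 1 := fun i hi => by rcases hpm i hi with e | e <;> omega
  have hQN : Q ⊆ N := fun i hi => Finset.mem_filter.2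
    ⟨g.sub (Finset.mem_filter.1 hi).1, (Finset.mem_filter.1 hi).2⟩
  have hQ3 : Q.card ≤ 3 := hNc ▸ Finset.card_le_card hQN
  have hQc : Q.card = 2 := by
    rcases (show Q.card ≤ 1 ∨ Q.card = 2 ∨ Q.card = 3 by omega) with h | h | h
    · have := Finset.sum_le_card_nsmul Q _ 1 hle
      rw [h2, nsmul_eq_mul, mul_one] at this
      omega
    · exact h
    · exfalso
      obtain ⟨a, b, c, hab, hac, hbc, e⟩ := Finset.card_eq_three.1 h
      rw [e] at h2 hpm
      rw [Finset.sum_insert (by simp [hab, hac]), Finset.sum_pair hbc] at h2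
      rcases hpm a (by simp) with e1 | e1 <;> rcases hpm b (by simp) with e2 | e2 <;>
        rcases hpm c (by simp) with e3 | e3 <;> omega
  have hQone : ∀ i ∈ Q, X i * Y j i = 1 := by
    intro i hi
    rcases hpm i hi with e | e
    · exact e
    · exfalso
      rw [← Finset.add_sum_erase Q _ hi, e] at h2
      have := Finset.sum_le_card_nsmul (Q.erase i) _ 1
        fun t ht => hle t (Finset.mem_of_mem_erase ht)
      rw [Finset.card_erase_of_mem hi, hQc, nsmul_eq_mul, mul_one] at this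
      omega
  obtain ⟨s, hs⟩ := Finset.card_eq_one.1
    (show (N \ Q).card = 1 by rw [Finset.card_sdiff_of_subset hQN, hNc, hQc])
  have hsm : s ∈ N \ Q := hs ▸ Finset.mem_singleton_self s
  obtain ⟨hsN, hsQ⟩ := Finset.mem_sdiff.1 hsm
  obtain ⟨hsS, hs0⟩ := Finset.mem_filter.1 hsN
  refine ⟨Q, s, Y j s, Finset.filter_subset _ _, hQc, hsS,
    fun h => hsQ (Finset.mem_filter.2 ⟨h, hs0⟩), units (hu s hsS hs0), fun i hi => ?_, rfl,
    fun i hi hiQ his => ?_⟩
  · calc Y j i = X i * X i * Y j i := by rw [hX1 i (Finset.mem_filter.1 hi).1, one_mul]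
      _ = X i * (X i * Y j i) := by ring
      _ = X i := by rw [hQone i hi, mul_one]
  · by_contra h0
    exact his (Finset.mem_singleton.1
      (hs ▸ Finset.mem_sdiff.2 ⟨Finset.mem_filter.2 ⟨hi, h0⟩, hiQ⟩))

/-- The data of all columns. -/
structure Shape (S E : Finset ι) (X : ι → ℤ) (Y : κ → ι → ℤ) (P : κ → Finset ι) (s : κ → ι)
    (f : κ → ℤ) : Prop extends Gram S E X Y where
  card : E.card = 4
  x1 : ∀ i ∈ E, X i * X i = 1
  x0 : ∀ i ∈ S, i ∉ E → X i = 0
  Psub : ∀ j, P j ⊆ E
  Pcard : ∀ j, (P j).card = 2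
  sS : ∀ j, s j ∈ S
  sE : ∀ j, s j ∉ E
  funit : ∀ j, f j = 1 ∨ f j = -1
  yP : ∀ j, ∀ i ∈ P j, Y j i = X i
  ys : ∀ j, Y j (s j) = f j
  y0 : ∀ j, ∀ i ∈ S, i ∉ P j → i ≠ s j → Y j i = 0

theorem Gram.exists_shape (g : Gram S E X Y) : ∃ P s f, Shape S E X Y P s f := by
  choose P s f h1 h2 h3 h4 h5 h6 h7 h8 using g.column
  obtain ⟨a, b, c⟩ := g.x_vals
  exact ⟨P, s, f, g, a, b, c, h1, h2, h3, h4, h5, h6, h7, h8⟩

variable {P : κ → Finset ι} {s : κ → ι} {f : κ → ℤ}

theorem Shape.sum_col (h : Shape S E X Y P s f) (j : κ) (w : ι → ℤ) :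
    ∑ i ∈ S, Y j i * w i = (∑ i ∈ P j, X i * w i) + f j * w (s j) := by
  have hsP : s j ∉ P j := fun e => h.sE j (h.Psub j e)
  rw [← Finset.sum_subset (s₁ := insert (s j) (P j))
    (Finset.insert_subset (h.sS j) ((h.Psub j).trans h.sub)) fun i hi hn => by
      rw [Finset.mem_insert, not_or] at hn
      rw [h.y0 j i hi hn.2 hn.1, zero_mul],
    Finset.sum_insert hsP, h.ys, add_comm]
  congr 1
  exact Finset.sum_congr rfl fun i hi => by rw [h.yP j i hi]

theorem Shape.pair (h : Shape S E X Y P s f) {j k : κ} (hjk : j ≠ k) :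
    (P j ≠ P k ∧ (P j ∩ P k).card = 1 ∧ s j = s k ∧ f j = f k) ∨ (P j = P k ∧ s j ≠ s k) := by
  have h1 := h.YY j k
  rw [if_neg hjk, h.sum_col j (Y k)] at h1
  have hsum : ∑ i ∈ P j, X i * Y k i = ((P j ∩ P k).card : ℤ) := by
    rw [← Finset.sum_subset (Finset.inter_subset_left (s₂ := P k)) fun i hi hn => by
      rw [h.y0 k i (h.sub (h.Psub j hi))
        (fun e => hn (Finset.mem_inter.2 ⟨hi, e⟩))
        (fun e => h.sE k (e ▸ h.Psub j hi)), mul_zero],
      Finset.card_eq_sum_ones, Nat.cast_sum]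
    refine Finset.sum_congr rfl fun i hi => ?_
    obtain ⟨hij, hik⟩ := Finset.mem_inter.1 hi
    rw [h.yP k i hik, h.x1 i (h.Psub j hij)]
    rfl
  rw [hsum] at h1
  have hle : (P j ∩ P k).card ≤ 2 :=
    h.Pcard j ▸ Finset.card_le_card Finset.inter_subset_left
  have hsk : Y k (s j) = if s j = s k then f k else 0 := by
    split_ifs with e
    · rw [e, h.ys]
    · exact h.y0 k _ (h.sS j) (fun e' => h.sE j (h.Psub k e')) e
  rw [hsk] at h1
  by_cases hP : P j = P k
  · right
    refine ⟨hP, fun e => ?_⟩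
    rw [hP, Finset.inter_self, h.Pcard, if_pos e] at h1
    rcases h.funit j with a | a <;> rcases h.funit k with b | b <;> rw [a, b] at h1 <;> omega
  · left
    have hlt : (P j ∩ P k).card ≠ 2 := fun e => hP (by
      have e1 : P j ∩ P k = P j := Finset.eq_of_subset_of_card_le Finset.inter_subset_left
        (by rw [e, h.Pcard])
      have e2 : P j ∩ P k = P k := Finset.eq_of_subset_of_card_le Finset.inter_subset_right
        (by rw [e, h.Pcard])
      exact e1.symm.trans e2)
    split_ifs at h1 with e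
    · rcases h.funit j with a | a <;> rcases h.funit k with b | b <;> rw [a, b] at h1 ⊢ <;>
        refine ⟨hP, by omega, e, by omega⟩
    · omega

/-- Either the outside entries are distinct or all pairs are. -/
theorem Shape.inj_or (h : Shape S E X Y P s f) :
    Function.Injective s ∨
      ((∀ j k, j ≠ k → P j ≠ P k ∧ (P j ∩ P k).card = 1 ∧ s j = s k ∧ f j = f k) ∧
        2 ≤ Fintype.card κ ∧ Fintype.card κ ≤ 3) := by
  by_cases hs : Function.Injective s
  · exact Or.inl hs
  right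
  obtain ⟨j₁, j₂, heq, hne⟩ : ∃ j₁ j₂, s j₁ = s j₂ ∧ j₁ ≠ j₂ := by
    by_contra hh
    push Not at hh
    exact hs fun a b e => hh a b e
  obtain ⟨hP, -, -, -⟩ := (h.pair hne).resolve_right fun e => e.2 heq
  have hall : ∀ k, s k = s j₁ := by
    intro k
    by_contra hk
    have hk1 : k ≠ j₁ := fun e => hk (by rw [e])
    have hk2 : k ≠ j₂ := fun e => hk (by rw [e, heq])
    have e1 := (h.pair hk1).resolve_left fun e => hk e.2.2.1
    have e2 := (h.pair hk2).resolve_left fun e => hk (e.2.2.1.trans heq.symm)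
    exact hP (e1.1.symm.trans e2.1)
  have hdist : ∀ j k, j ≠ k → P j ≠ P k ∧ (P j ∩ P k).card = 1 ∧ s j = s k ∧ f j = f k :=
    fun j k hjk => (h.pair hjk).resolve_right fun e => e.2 ((hall j).trans (hall k).symm)
  refine ⟨hdist, Fintype.one_lt_card_iff.2 ⟨j₁, j₂, hne⟩, ?_⟩
  -- the pairs and their complements are six different pairs at most
  let F : Finset (Finset ι) := Finset.univ.image P
  let F' : Finset (Finset ι) := Finset.univ.image fun j => E \ P j
  have hinj : Function.Injective P := fun j k e => by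
    by_contra hjk; exact (hdist j k hjk).1 e
  have hinj' : Function.Injective fun j => E \ P j := fun j k e => hinj (by
    have e' : E \ (E \ P j) = E \ (E \ P k) := congrArg (E \ ·) e
    rwa [Finset.sdiff_sdiff_eq_self (h.Psub j), Finset.sdiff_sdiff_eq_self (h.Psub k)] at e')
  have hdisj : Disjoint F F' := by
    rw [Finset.disjoint_left]
    rintro _ hA hB
    obtain ⟨j, -, rfl⟩ := Finset.mem_image.1 hA
    obtain ⟨k, -, hk⟩ := Finset.mem_image.1 hB
    have h0 : (P k ∩ P j).card = 0 := by rw [← hk, Finset.inter_sdiff_self, Finset.card_empty]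
    by_cases hjk : k = j
    · subst hjk
      rw [Finset.inter_self, h.Pcard] at h0
      omega
    · rw [(hdist k j hjk).2.1] at h0
      omega
  have hsub : F ∪ F' ⊆ E.powersetCard 2 := by
    intro A hA
    rw [Finset.mem_powersetCard]
    rcases Finset.mem_union.1 hA with hA | hA <;> obtain ⟨j, -, rfl⟩ := Finset.mem_image.1 hA
    · exact ⟨h.Psub j, h.Pcard j⟩
    · exact ⟨Finset.sdiff_subset, by
        rw [Finset.card_sdiff_of_subset (h.Psub j), h.card, h.Pcard]⟩
  have := Finset.card_le_card hsub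
  rw [Finset.card_union_of_disjoint hdisj, Finset.card_powersetCard, h.card,
    Finset.card_image_of_injective _ hinj, Finset.card_image_of_injective _ hinj',
    Finset.card_univ, show Nat.choose 4 2 = 6 from rfl] at this
  omega

/-- Three pairs meeting pairwise in one point form a star or a triangle. -/
theorem three_pairs {E : Finset ι} (hE : E.card = 4) (P : Fin 3 → Finset ι)
    (hsub : ∀ j, P j ⊆ E) (hc : ∀ j, (P j).card = 2)
    (hd : ∀ j k, j ≠ k → (P j ∩ P k).card = 1) :
    ∃ (a : ι) (b : Fin 3 → ι), Function.Injective b ∧ (∀ j, b j ≠ a) ∧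
      E = insert a (Finset.univ.image b) ∧
      ((∀ j, P j = {a, b j}) ∨ ∀ j, P j = (Finset.univ.image b).erase (b j)) := by
  obtain ⟨x, hx⟩ := Finset.card_eq_one.1 (hd 0 1 (by decide))
  have hx0 : x ∈ P 0 := Finset.inter_subset_left (hx ▸ Finset.mem_singleton_self x : x ∈ P 0 ∩ P 1)
  have hx1 : x ∈ P 1 := Finset.inter_subset_right (hx ▸ Finset.mem_singleton_self x : x ∈ P 0 ∩ P 1)
  obtain ⟨y, hy⟩ := Finset.card_eq_one.1
    (show ((P 0).erase x).card = 1 by rw [Finset.card_erase_of_mem hx0, hc])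
  obtain ⟨z, hz⟩ := Finset.card_eq_one.1
    (show ((P 1).erase x).card = 1 by rw [Finset.card_erase_of_mem hx1, hc])
  have hy0 : P 0 = {x, y} := by rw [← Finset.insert_erase hx0, hy]
  have hz1 : P 1 = {x, z} := by rw [← Finset.insert_erase hx1, hz]
  have hyx : y ≠ x := Finset.ne_of_mem_erase (hy ▸ Finset.mem_singleton_self y)
  have hzx : z ≠ x := Finset.ne_of_mem_erase (hz ▸ Finset.mem_singleton_self z)
  have hyz : y ≠ z := fun e => by
    have : (P 0 ∩ P 1).card = 2 := by rw [hy0, hz1, e, Finset.inter_self, Finset.card_pair hzx.symm]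
    rw [hd 0 1 (by decide)] at this
    omega
  obtain ⟨u, v, huv, hP2⟩ := Finset.card_eq_two.1 (hc 2)
  have hEeq : ∀ (a : ι) (b : Fin 3 → ι), Function.Injective b → (∀ j, b j ≠ a) → a ∈ E →
      (∀ j, b j ∈ E) → E = insert a (Finset.univ.image b) := fun a b hb ha haE hbE =>
    (Finset.eq_of_subset_of_card_le (Finset.insert_subset haE
      (Finset.image_subset_iff.2 fun j _ => hbE j)) (by
      rw [Finset.card_insert_of_notMem (by simp [ha]), Finset.card_image_of_injective _ hb, hE]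
      simp)).symm
  by_cases hx2 : x ∈ P 2
  · obtain ⟨w, hw⟩ := Finset.card_eq_one.1
      (show ((P 2).erase x).card = 1 by rw [Finset.card_erase_of_mem hx2, hc])
    have hw2 : P 2 = {x, w} := by rw [← Finset.insert_erase hx2, hw]
    have hwx : w ≠ x := Finset.ne_of_mem_erase (hw ▸ Finset.mem_singleton_self w)
    have hwy : w ≠ y := fun e => by
      have : (P 0 ∩ P 2).card = 2 := by
        rw [hy0, hw2, e, Finset.inter_self, Finset.card_pair hyx.symm]
      rw [hd 0 2 (by decide)] at this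
      omega
    have hwz : w ≠ z := fun e => by
      have : (P 1 ∩ P 2).card = 2 := by
        rw [hz1, hw2, e, Finset.inter_self, Finset.card_pair hzx.symm]
      rw [hd 1 2 (by decide)] at this
      omega
    have hb : Function.Injective ![y, z, w] := fun i j e => by
      have := hyz.symm; have := hwy.symm; have := hwz.symm
      fin_cases i <;> fin_cases j <;> first | rfl | (exfalso; simp at e; contradiction)
    refine ⟨x, ![y, z, w], hb, fun j => ?_, hEeq _ _ hb (fun j => ?_) (hsub 0 hx0) (fun j => ?_),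
      Or.inl fun j => ?_⟩
    · fin_cases j <;> simp [hyx, hzx, hwx]
    · fin_cases j <;> simp [hyx, hzx, hwx]
    · fin_cases j
      · exact hsub 0 (by rw [hy0]; simp)
      · exact hsub 1 (by rw [hz1]; simp)
      · exact hsub 2 (by rw [hw2]; simp)
    · fin_cases j <;> simp [hy0, hz1, hw2]
  · have hmem : ∀ (j : Fin 3) (t : ι), j ≠ 2 → P j = {x, t} → t ∈ P 2 := fun j t hj e => by
      obtain ⟨r, hr⟩ := Finset.card_eq_one.1 (hd j 2 hj)
      obtain ⟨h1, h2⟩ := Finset.mem_inter.1 (hr ▸ Finset.mem_singleton_self r : r ∈ P j ∩ P 2)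
      rw [e, Finset.mem_insert, Finset.mem_singleton] at h1
      rcases h1 with rfl | rfl
      · exact absurd h2 hx2
      · exact h2
    have hP : P 2 = {y, z} := (Finset.eq_of_subset_of_card_le
      (Finset.insert_subset (hmem 0 y (by decide) hy0)
        (Finset.singleton_subset_iff.2 (hmem 1 z (by decide) hz1)))
      (by rw [hc, Finset.card_pair hyz])).symm
    obtain ⟨w, hw, hwn⟩ := Finset.exists_mem_notMem_of_card_lt_card
      (s := ({x, y, z} : Finset ι)) (t := E) (by
        rw [hE, Finset.card_insert_of_notMem (by simp [hyx.symm, hzx.symm]), Finset.card_pair hyz]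
        omega)
    simp only [Finset.mem_insert, Finset.mem_singleton, not_or] at hwn
    obtain ⟨hwx, hwy, hwz⟩ := hwn
    have hb : Function.Injective ![z, y, x] := fun i j e => by
      have := hyz.symm; have := hyx.symm; have := hzx.symm
      fin_cases i <;> fin_cases j <;> first | rfl | (exfalso; simp at e; contradiction)
    have himg : Finset.univ.image ![z, y, x] = {z, y, x} := by
      ext t; simp [Finset.mem_image, Fin.exists_fin_succ, eq_comm]
    refine ⟨w, ![z, y, x], hb, fun j => ?_, hEeq _ _ hb (fun j => ?_) hw (fun j => ?_),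
      Or.inr fun j => ?_⟩
    · fin_cases j <;> simp [Ne.symm hwx, Ne.symm hwy, Ne.symm hwz]
    · fin_cases j <;> simp [Ne.symm hwx, Ne.symm hwy, Ne.symm hwz]
    · fin_cases j
      · exact hsub 1 (by rw [hz1]; simp)
      · exact hsub 0 (by rw [hy0]; simp)
      · exact hsub 0 (by rw [hy0]; simp)
    · rw [himg]
      fin_cases j <;> ext t <;> simp [hy0, hz1, hP] <;> aesop

end CfsgLib.Blocks.DihBlock
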