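import Cfsg.Agent.Lib.Blocks.DihBlock.Local
import Cfsg.Agent.Lib.Blocks.DihBlock.Shape
import Cfsg.Agent.Lib.Blocks.Dihedral.Main

/-!
# The integral columns of a block with dihedral defect group
-/

namespace CfsgLib.Blocks.DihBlock

open Cfsg CfsgLib.CharTheory CfsgLib.Blocks.Dihedral
open scoped ComplexConjugate

set_option linter.unusedVariables false
set_option linter.unusedSimpArgs false
set_option linter.style.haveILetI false
set_option linter.unusedSectionVars false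

universe u

variable {G : Type u} [Group G] [Fintype G] {M : Ideal AlgInt} {B : Set (IrrCharacter G)}
  {σ : G} {h : ℕ} [Fintype (zc σ h)] {f : Set (IrrCharacter (zc σ h))}
  {a : BrauerPairIdx (zc σ h)} {s : zc σ h} {ψ₀ : IrrCharacter (zc σ h)}
  {T : IrrCharacter a.1 → IrrCharacter (zc σ h)} {ζ : ℂ}

theorem Par.coef_int (P : Par M B σ h f a s ψ₀ T) (hζ : IsPrimitiveRoot ζ (2 * h))
    (χ : IrrCharacter G) {i : ℕ} (hi : i ≤ 2 * h) :
    ∃ m : ℤ, coef (2 * h) ζ s (lam a T χ) i = (m : ℂ) := by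
  classical
  haveI := Fintype.ofFinite a.1
  haveI : NeZero (2 * h) := ⟨by have := P.cyc.two_le; omega⟩
  set s' : a.1 := ⟨s, P.dg.mem⟩ with hs'
  have hN : s' ^ (2 * h) = 1 := Subtype.ext (by
    rw [SubmonoidClass.coe_pow]; exact P.dg.toCyc.pow_N)
  choose m hm using fun l : IrrCharacter a.1 =>
    Dihedral.coef_int hζ hN (isCharacter_of_irr l.2) hi
  choose n hn using fun l : IrrCharacter a.1 =>
    classInner_char_nat (isCharacter_restrict_irr (zc σ h) χ) (isCharacter_of_irr (T l).2)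
  refine ⟨∑ l, (n l : ℤ) * m l, ?_⟩
  push_cast
  simp only [← hm, coef, Finset.mul_sum]
  rw [Finset.sum_comm]
  refine Finset.sum_congr rfl fun t _ => ?_
  rw [lam, Finset.sum_mul, Finset.mul_sum]
  refine Finset.sum_congr rfl fun l _ => ?_
  rw [hn, show s ^ t = ((s' ^ t : a.1) : zc σ h) by rw [SubmonoidClass.coe_pow],
    sext_coe a.1 (l : a.1 → ℂ) (s' ^ t)]
  ring

theorem Par.coef_symm (P : Par M B σ h f a s ψ₀ T) (hζ : IsPrimitiveRoot ζ (2 * h))
    (χ : IrrCharacter G) {i : ℕ} (hi : i ≤ 2 * h) :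
    coef (2 * h) ζ s (lam a T χ) (2 * h - i) = coef (2 * h) ζ s (lam a T χ) i := by
  have hN : (2 * h : ℕ) ≠ 0 := by have := P.cyc.two_le; omega
  obtain ⟨m, hm⟩ := P.coef_int hζ χ hi
  conv_rhs => rw [hm, ← map_intCast (starRingEnd ℂ), ← hm]
  rw [coef, coef, map_mul, map_inv₀, map_natCast, map_sum]
  refine congrArg _ (Finset.sum_congr rfl fun l _ => ?_)
  rw [map_mul, P.lam_real χ (Subgroup.npow_mem_zpowers s l), conj_pow_eq hζ hN hi,
    Nat.sub_sub_self hi]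

theorem Par.recon (P : Par M B σ h f a s ψ₀ T) (hζ : IsPrimitiveRoot ζ (2 * h))
    (χ : IrrCharacter G) {l : ℕ} (hl0 : 0 < l) (hl : l < 2 * h) :
    lam a T χ (s ^ l) = colC h ζ s (lam a T χ) 0 + ∑ j ∈ Finset.range (h - 1),
      colC h ζ s (lam a T χ) (j + 1) * ((ζ ^ (j + 1)) ^ l + ((ζ ^ (j + 1)) ^ l)⁻¹) := by
  have h2 := P.cyc.two_le
  obtain ⟨N, rfl⟩ : ∃ N, h = N + 1 := ⟨h - 1, by omega⟩
  have h0 : ∑ i ∈ Finset.range (2 * (N + 1)), (ζ ^ i) ^ l = 0 := by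
    rw [Finset.sum_congr rfl fun i _ => show (ζ ^ i) ^ l = (ζ ^ l) ^ i by
      rw [← pow_mul, mul_comm, pow_mul], root_sum hζ,
      if_neg fun d => by have := Nat.le_of_dvd hl0 d; omega]
  have h1 : lam a T χ (s ^ l) = ∑ i ∈ Finset.range (2 * (N + 1)),
      colC (N + 1) ζ s (lam a T χ) i * (ζ ^ i) ^ l := by
    simp only [colC, sub_mul, Finset.sum_sub_distrib, ← Finset.mul_sum]
    rw [h0, mul_zero, sub_zero, coef_inversion hζ (by omega) _ hl]
  rw [h1, sum_range_split, Nat.add_sub_cancel, pow_zero, one_pow, mul_one,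
    show colC (N + 1) ζ s (lam a T χ) (N + 1) = 0 from sub_self _, zero_mul, add_zero]
  congr 1
  refine Finset.sum_congr rfl fun j hj => ?_
  have hj' := Finset.mem_range.1 hj
  rw [colC, colC, P.coef_symm hζ χ (show j + 1 ≤ 2 * (N + 1) by omega),
    ← inv_pow_eq hζ (by omega) (show j + 1 ≤ 2 * (N + 1) by omega)]
  ring

theorem Par.gram (P : Par M B σ h f a s ψ₀ T) (hζ : IsPrimitiveRoot ζ (2 * h)) {i k : ℕ}
    (hi : i < h) (hk : k < h) :
    ∑ χ ∈ bset B, colC h ζ s (lam a T χ) i * conj (colC h ζ s (lam a T χ) k) =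
      (if i = k then 1 else 0) + (if i = 0 ∧ k = 0 then 1 else 0) + 2 := by
  classical
  have hN : (2 * h : ℕ) ≠ 0 := by omega
  have hN' : ((2 * h : ℕ) : ℂ) ≠ 0 := Nat.cast_ne_zero.2 hN
  have hconj : ∀ l, conj (kerF h ζ k l) = kerC h ζ k l := fun l => by
    have e := conj_pow_eq hζ hN (show h ≤ 2 * h by omega) l
    rw [show 2 * h - h = h by omega] at e
    rw [kerF, kerC, map_sub, conj_pow_eq hζ hN (by omega), e]
  have e1 : ∀ χ : IrrCharacter G,
      colC h ζ s (lam a T χ) i * conj (colC h ζ s (lam a T χ) k) =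
      (((2 * h : ℕ) : ℂ)⁻¹ * ((2 * h : ℕ) : ℂ)⁻¹) * ∑ l ∈ Finset.range (2 * h),
        ∑ m ∈ Finset.range (2 * h), kerF h ζ i l * kerC h ζ k m *
          (lam a T χ (s ^ l) * conj (lam a T χ (s ^ m))) := by
    intro χ
    rw [colC_eq, colC_eq, map_mul, map_inv₀, map_natCast, map_sum, mul_mul_mul_comm,
      Finset.sum_mul_sum]
    refine congrArg _ (Finset.sum_congr rfl fun l _ => Finset.sum_congr rfl fun m _ => ?_)
    rw [map_mul, hconj]
    ring
  rw [Finset.sum_congr rfl fun χ _ => e1 χ, ← Finset.mul_sum, Finset.sum_comm]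
  have e2 : ∀ l ∈ Finset.range (2 * h), ∑ χ ∈ bset B,
      ∑ m ∈ Finset.range (2 * h), kerF h ζ i l * kerC h ζ k m *
        (lam a T χ (s ^ l) * conj (lam a T χ (s ^ m))) =
      ((2 * h : ℕ) : ℂ) * (kerF h ζ i l * (kerC h ζ k l + kerC h ζ k (2 * h - l))) := by
    intro l hl
    have hl' := Finset.mem_range.1 hl
    rcases Nat.eq_zero_or_pos l with rfl | hl0
    · simp [kerF_zero]
    rw [Finset.sum_comm]
    have e3 : ∀ m ∈ Finset.range (2 * h), ∑ χ ∈ bset B,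
        kerF h ζ i l * kerC h ζ k m * (lam a T χ (s ^ l) * conj (lam a T χ (s ^ m))) =
        ((2 * h : ℕ) : ℂ) * kerF h ζ i l *
          ((if m = l then kerC h ζ k m else 0) + if m = 2 * h - l then kerC h ζ k m else 0) := by
      intro m hm
      rcases Nat.eq_zero_or_pos m with rfl | hm0
      · simp [kerC_zero]
      rw [← Finset.mul_sum, P.orth_pow hl0 hl' hm0 (Finset.mem_range.1 hm)]
      split_ifs <;> ring
    rw [Finset.sum_congr rfl e3, ← Finset.mul_sum, Finset.sum_add_distrib, Finset.sum_ite_eq',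
      Finset.sum_ite_eq', if_pos hl, if_pos (Finset.mem_range.2 (by omega))]
    ring
  rw [Finset.sum_congr rfl e2, ← Finset.mul_sum, ker_sum hζ hi hk]
  field_simp

theorem Par.col_sum (P : Par M B σ h f a s ψ₀ T) (i : ℕ) :
    ∑ χ ∈ bset B, colC h ζ s (lam a T χ) i * (χ : G → ℂ) 1 = 0 := by
  simp only [colC_eq, Finset.sum_mul, Finset.mul_sum]
  rw [Finset.sum_comm, Finset.sum_eq_zero]
  intro l hl
  rcases Nat.eq_zero_or_pos l with rfl | hl0
  · simp [kerF_zero]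
  have e : ∀ χ : IrrCharacter G, ((2 * h : ℕ) : ℂ)⁻¹ * (lam a T χ (s ^ l) * kerF h ζ i l) *
      (χ : G → ℂ) 1 = ((2 * h : ℕ) : ℂ)⁻¹ * kerF h ζ i l *
        (lam a T χ (s ^ l) * conj ((χ : G → ℂ) 1)) := fun χ => by rw [irr_one_conj]; ring
  simp only [e]
  rw [← Finset.mul_sum, P.orth_regular (Subgroup.npow_mem_zpowers s l)
    (P.dg.toCyc.pow_ne_one hl0 (Finset.mem_range.1 hl)) (by simp), mul_zero]

theorem root_half (hζ : IsPrimitiveRoot ζ (2 * h)) (h0 : h ≠ 0) : ζ ^ h = -1 :=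
  IsPrimitiveRoot.eq_neg_one_of_two_right (hζ.pow (by omega) (mul_comm 2 h))

/-- The integral columns. -/
structure Cols (B : Set (IrrCharacter G)) (a : BrauerPairIdx (zc σ h))
    (T : IrrCharacter a.1 → IrrCharacter (zc σ h)) (s : zc σ h) (ζ : ℂ)
    (X : IrrCharacter G → ℤ) (Y : Fin (h - 1) → IrrCharacter G → ℤ) : Prop where
  val : ∀ χ l, 0 < l → l < 2 * h → lam a T χ (s ^ l) = (X χ : ℂ) + ∑ j : Fin (h - 1),
    (Y j χ : ℂ) * ((ζ ^ ((j : ℕ) + 1)) ^ l + ((ζ ^ ((j : ℕ) + 1)) ^ l)⁻¹)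
  XX : ∑ χ ∈ bset B, X χ * X χ = 4
  XY : ∀ j, ∑ χ ∈ bset B, X χ * Y j χ = 2
  YY : ∀ j k, ∑ χ ∈ bset B, Y j χ * Y k χ = if j = k then 3 else 2
  Xd : ∑ χ ∈ bset B, (X χ : ℂ) * (χ : G → ℂ) 1 = 0
  Yd : ∀ j, ∑ χ ∈ bset B, (Y j χ : ℂ) * (χ : G → ℂ) 1 = 0

theorem Par.exists_cols (P : Par M B σ h f a s ψ₀ T) (hζ : IsPrimitiveRoot ζ (2 * h)) :
    ∃ X Y, Cols B a T s ζ X Y := by
  classical
  have h2 := P.cyc.two_le
  choose m hm using fun (χ : IrrCharacter G) (i : Fin (2 * h)) =>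
    P.coef_int hζ χ i.2.le
  let c : IrrCharacter G → Fin (2 * h) → ℤ := fun χ i => m χ i - m χ ⟨h, by omega⟩
  have hc : ∀ χ i, (c χ i : ℂ) = colC h ζ s (lam a T χ) i := fun χ i => by
    simp only [c, Int.cast_sub, ← hm, colC]
  have hg : ∀ i k : Fin (2 * h), (i : ℕ) < h → (k : ℕ) < h →
      ∑ χ ∈ bset B, c χ i * c χ k =
        (if (i : ℕ) = k then 1 else 0) + (if (i : ℕ) = 0 ∧ (k : ℕ) = 0 then 1 else 0) + 2 := by
    intro i k hi hk
    apply Int.cast_injective (α := ℂ)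
    push_cast
    rw [← P.gram hζ hi hk]
    exact Finset.sum_congr rfl fun χ _ => by rw [← hc χ i, ← hc χ k, map_intCast]
  refine ⟨fun χ => c χ ⟨0, by omega⟩, fun j χ => c χ ⟨(j : ℕ) + 1, by omega⟩,
    fun χ l hl0 hl => ?_, ?_, fun j => ?_, fun j k => ?_, ?_, fun j => ?_⟩
  · rw [P.recon hζ χ hl0 hl, Finset.sum_range]
    simp only [hc]
  · rw [hg _ _ (by simp; omega) (by simp; omega)]; simp
  · rw [hg _ _ (by simp; omega) (show (j : ℕ) + 1 < h by omega)]; simp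
  · rw [hg _ _ (show (j : ℕ) + 1 < h by omega) (show (k : ℕ) + 1 < h by omega)]
    by_cases e : j = k
    · simp [e]
    · simp [e, Fin.val_ne_of_ne e]
  · simp only [hc]
    exact P.col_sum 0
  · simp only [hc]
    exact P.col_sum _

variable {X : IrrCharacter G → ℤ} {Y : Fin (h - 1) → IrrCharacter G → ℤ}

/-- The value at the involution. -/
def zval (X : IrrCharacter G → ℤ) (Y : Fin (h - 1) → IrrCharacter G → ℤ)
    (χ : IrrCharacter G) : ℤ :=
  X χ + 2 * ∑ j : Fin (h - 1), (-1) ^ ((j : ℕ) + 1) * Y j χ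

theorem Par.lam_z (P : Par M B σ h f a s ψ₀ T) (hζ : IsPrimitiveRoot ζ (2 * h))
    (C : Cols B a T s ζ X Y) (χ : IrrCharacter G) :
    lam a T χ (s ^ h) = (zval X Y χ : ℂ) := by
  have h2 := P.cyc.two_le
  rw [C.val χ h (by omega) (by omega), zval]
  push_cast
  rw [Finset.mul_sum]
  congr 1
  refine Finset.sum_congr rfl fun j _ => ?_
  have e : (ζ ^ ((j : ℕ) + 1)) ^ h = (-1) ^ ((j : ℕ) + 1) := by
    rw [← pow_mul, mul_comm, pow_mul, root_half hζ (by omega)]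
  rw [e]
  rcases neg_one_pow_eq_or ℂ ((j : ℕ) + 1) with e1 | e1 <;> rw [e1] <;> norm_num <;> ring

theorem zval_parity (χ : IrrCharacter G) : Odd (zval X Y χ) ↔ Odd (X χ) := by
  rw [zval, Int.odd_add]
  simp

/-- Heights and the values at the involution. -/
theorem Par.height_z (P : Par M B σ h f a s ψ₀ T) (hζ : IsPrimitiveRoot ζ (2 * h))
    (C : Cols B a T s ζ X Y) {χ : IrrCharacter G} (hχ : χ ∈ B) :
    (Odd (X χ) ↔ blockHeight 2 B (χ : G → ℂ) = 0) ∧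
      ((2 : ℤ) ^ blockHeight 2 B (χ : G → ℂ) ∣ zval X Y χ) ∧ zval X Y χ ≠ 0 := by
  classical
  have hM := P.hM
  haveI := res_charP hM
  haveI := res_isDomain hM
  have hsec : ∀ χ ψ : IrrCharacter G, secPair 2 (σ ^ h) f (χ : G → ℂ) (ψ : G → ℂ) =
      ((zval X Y χ * zval X Y ψ : ℤ) : ℂ) := fun χ ψ => by
    rw [P.secPair_z, P.lam_z hζ C, P.lam_z hζ C, Int.cast_mul]
  have hord := P.cyc.exists_order (Subgroup.npow_mem_zpowers σ h)
  have hodd : ∀ θ ∈ B, dv 2 (θ : G → ℂ) = minDv 2 B → Odd (zval X Y θ) := by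
    intro θ hθ h0
    have hne := (secPair_res_ne hM (isCentr_zpowers (σ ^ h)) hord P.ind hθ hθ h0 h0).2
    rw [hsec, res_intCast' hM] at hne
    by_contra hev
    apply hne
    rw [CharP.intCast_eq_zero_iff (AlgInt ⧸ M) 2]
    exact Dvd.dvd.mul_right (even_iff_two_dvd.1 (Int.not_odd_iff_even.1 hev)) _
  obtain ⟨θ, hθ, h0⟩ := exists_height_zero hM P.toLoc.hB
  obtain ⟨w, hw, hwi, hw0⟩ :=
    secPair_div hM (isCentr_zpowers (σ ^ h)) hord P.ind P.hdef hθ hχ h0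
  rw [hsec, ← blockHeight_eq 2 B (χ : G → ℂ)] at hw
  set t := blockHeight 2 B (χ : G → ℂ) with ht
  have hne : zval X Y χ ≠ 0 := fun e => by
    rw [e, mul_zero, Int.cast_zero] at hw
    exact mul_ne_zero (pow_ne_zero _ (by norm_num)) hw0 hw.symm
  have hdvd : (2 : ℤ) ^ t ∣ zval X Y χ := by
    have hq : (((zval X Y θ * zval X Y χ : ℤ) / (2 : ℤ) ^ t : ℚ) : ℂ) = w := by
      push_cast at hw ⊢
      rw [hw]
      exact mul_div_cancel_left₀ _ (pow_ne_zero _ (by norm_num))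
    obtain ⟨k, hk⟩ := exists_int_of_isIntegral_ratCast (hq ▸ hwi)
    have h1 : zval X Y θ * zval X Y χ = k * (2 : ℤ) ^ t := by
      have h2 : ((zval X Y θ * zval X Y χ : ℤ) : ℚ) = (k : ℚ) * ((2 : ℤ) ^ t : ℤ) := by
        rw [← hk]
        push_cast
        field_simp
      exact_mod_cast h2
    have hcop : IsCoprime ((2 : ℤ) ^ t) (zval X Y θ) := by
      apply IsCoprime.pow_left
      obtain ⟨q, hq⟩ := hodd θ hθ h0
      exact ⟨-q, 1, by rw [hq]; ring⟩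
    exact hcop.dvd_of_dvd_mul_left ⟨k, by rw [h1]; ring⟩
  refine ⟨⟨fun hX => ?_, fun h0' => (zval_parity χ).1 (hodd χ hχ ((height_zero_iff hχ).1 h0'))⟩,
    hdvd, hne⟩
  by_contra ht0
  have h2 : (2 : ℤ) ∣ zval X Y χ := (dvd_pow_self 2 ht0).trans hdvd
  exact Int.not_even_iff_odd.2 ((zval_parity (X := X) (Y := Y) χ).2 hX) (even_iff_two_dvd.2 h2)

end CfsgLib.Blocks.DihBlock
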