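import Cfsg.Agent.Lib.Blocks.DihBlock.Local
import Cfsg.Agent.Lib.Blocks.DihBlock.Central

/-!
# A congruence for the third moments of the columns at a generating rotation

The class function with coefficients given by the column at the rotation is squared in the group
algebra and reduced at the section of the rotation.
-/

namespace CfsgLib.Blocks.DihBlock

open Cfsg CfsgLib.CharTheory
open scoped ComplexConjugate

set_option linter.unusedVariables false
set_option linter.unusedSimpArgs false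
set_option linter.style.haveILetI false
set_option linter.unusedSectionVars false

universe u

section General

variable {p : ℕ} {M : Ideal AlgInt} {K : Type u} [Group K] [Fintype K]

theorem conj_blockCoeff (b : Set (IrrCharacter K)) (g : K) :
    conj (blockCoeff b g) = blockCoeff b g⁻¹ := by
  rw [blockCoeff, blockCoeff, finsum_mem_bset, finsum_mem_bset, map_mul, map_inv₀, map_natCast,
    map_sum]
  refine congrArg _ (Finset.sum_congr rfl fun χ _ => ?_)
  rw [map_mul, irr_one_conj, Complex.conj_conj, irr_conjInv, inv_inv]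

/-- The conjugate of a pairing is locally integral. -/
theorem memRing_conj_pairVal (hM : IsPModular p M) {a : BrauerPairIdx K} (ha : IsPBlock M a.2)
    (χ : IrrCharacter K) (g : K) : MemLocalRing M (conj (pairVal a (χ : K → ℂ) g)) := by
  classical
  rw [pairVal, map_sum]
  refine memRing_sum hM fun k _ => ?_
  rw [map_mul, irr_conjInv]
  refine (loc hM).mul_mem ?_ (memRing_irr hM χ _)
  rw [subgroupBlockCoeff_eq]
  by_cases hk : k ∈ Subgroup.centralizer (a.1 : Set K)
  · haveI := Fintype.ofFinite (Subgroup.centralizer (a.1 : Set K))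
    rw [show sext (Subgroup.centralizer (a.1 : Set K)) (blockCoeff a.2) k = blockCoeff a.2 ⟨k, hk⟩
      from sext_coe _ _ ⟨k, hk⟩, conj_blockCoeff]
    exact memRing_blockCoeff hM ha _
  · rw [sext_off _ _ hk, map_zero]
    exact (loc hM).zero_mem

/-- The sum over a subgroup fixing a class function product. -/
theorem res_conv_cent (hM : IsPModular p M) {x : K} (hx : ∃ k, orderOf x = p ^ k) {F : K → ℂ}
    (hF : IsClassFunction K F) (hFm : ∀ g, MemLocalRing M (F g)) {C : Subgroup K} [Fintype C]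
    (hC : IsCentr x C) {g : K} (hg : g ∈ C) :
    res hM (conv F F g) = res hM (∑ k : C, F k * F ((k : K)⁻¹ * g)) := by
  classical
  have hgx : Commute g x := ((hC g).1 hg)
  set P : Subgroup (ConjAct K) :=
    (Subgroup.zpowers x).map (ConjAct.toConjAct : K ≃* ConjAct K).toMonoidHom with hP
  have hPp : IsPGroup p P := (isPGroup_zpowers hM.1 hx).map _
  rw [conv, res_sum hM fun k _ => (loc hM).mul_mem (hFm _) (hFm _),
    res_sum hM fun k _ => (loc hM).mul_mem (hFm _) (hFm _)]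
  have hmem : ∀ k : K, k ∈ C ↔ k ∈ MulAction.fixedPoints P K := by
    intro k
    rw [hC k]
    constructor
    · rintro hk ⟨w, hw⟩
      obtain ⟨y, hy, rfl⟩ := Subgroup.mem_map.1 hw
      obtain ⟨t, rfl⟩ := hy
      show ConjAct.toConjAct (x ^ t) • k = k
      rw [ConjAct.toConjAct_smul, ← (hk.zpow_right t).eq, mul_inv_cancel_right]
    · intro hk
      have h1 : ConjAct.toConjAct x • k = k :=
        hk ⟨_, Subgroup.mem_map.2 ⟨x, Subgroup.mem_zpowers x, rfl⟩⟩
      rw [ConjAct.toConjAct_smul] at h1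
      exact (mul_inv_eq_iff_eq_mul.1 h1).symm
  rw [sum_fixedPoints hM hPp (fun k => res hM (F k * F (k⁻¹ * g))) ?_]
  · symm
    refine Finset.sum_bij (fun k _ => (k : K)) (fun k _ => ?_) (fun a _ b _ e => Subtype.ext e)
      (fun k hk => ⟨⟨k, (hmem k).2 (Finset.mem_filter.1 hk).2⟩, Finset.mem_univ _, rfl⟩)
      fun k _ => rfl
    exact Finset.mem_filter.2 ⟨Finset.mem_univ _, (hmem k).1 k.2⟩
  · rintro ⟨w, hw⟩ k
    obtain ⟨y, hy, rfl⟩ := Subgroup.mem_map.1 hw
    obtain ⟨t, rfl⟩ := hy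
    show res hM (F (ConjAct.toConjAct (x ^ t) • k) *
      F ((ConjAct.toConjAct (x ^ t) • k)⁻¹ * g)) = _
    rw [ConjAct.toConjAct_smul]
    have h2 : (x ^ t * k * (x ^ t)⁻¹)⁻¹ * g = x ^ t * (k⁻¹ * g) * (x ^ t)⁻¹ := by
      calc (x ^ t * k * (x ^ t)⁻¹)⁻¹ * g = x ^ t * k⁻¹ * ((x ^ t)⁻¹ * g) := by group
        _ = x ^ t * k⁻¹ * (g * (x ^ t)⁻¹) := by rw [(hgx.zpow_right t).inv_right.eq]
        _ = x ^ t * (k⁻¹ * g) * (x ^ t)⁻¹ := by group
    rw [h2, hF, hF]

end General

variable {G : Type u} [Group G] [Fintype G] {M : Ideal AlgInt} {B : Set (IrrCharacter G)}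
  {σ : G} {h : ℕ} [Fintype (zc σ h)] {f : Set (IrrCharacter (zc σ h))}
  {a : BrauerPairIdx (zc σ h)} {s : zc σ h} {ψ₀ : IrrCharacter (zc σ h)}
  {T : IrrCharacter a.1 → IrrCharacter (zc σ h)}

/-- The class function of the column at the rotation is locally integral. -/
theorem Par.colFun_mem (P : Par M B σ h f a s ψ₀ T) (g : G) :
    MemLocalRing M (∑ χ : IrrCharacter G,
      lam a T χ s / ((2 * h : ℕ) : ℂ) * (χ : G → ℂ) g) := by
  classical
  have hM := P.hM
  have h2 := P.cyc.two_le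
  have hN : ((2 * h : ℕ) : ℂ) ≠ 0 := Nat.cast_ne_zero.2 (by omega)
  have hsR : s ∈ Subgroup.zpowers s := Subgroup.mem_zpowers s
  have hs1 : s ≠ 1 := by simpa using P.dg.toCyc.pow_ne_one (l := 1) one_pos (by omega)
  have e1 : ∑ χ : IrrCharacter G, lam a T χ s / ((2 * h : ℕ) : ℂ) * (χ : G → ℂ) g =
      ((2 * h : ℕ) : ℂ)⁻¹ * ∑ χ : IrrCharacter G, lam a T χ s * conj ((χ : G → ℂ) g⁻¹) := by
    rw [Finset.mul_sum]
    exact Finset.sum_congr rfl fun χ _ => by rw [irr_conjInv, inv_inv]; ring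
  rw [e1]
  by_cases hex : ∃ y ∈ regC 2 s, IsConj ((s * y : zc σ h) : G) g⁻¹
  swap
  · push Not at hex
    rw [P.sum_lam hsR hs1 fun χ => conj ((χ : G → ℂ) g⁻¹), P.orth_off hsR hs1 hex, mul_zero]
    exact (loc hM).zero_mem
  obtain ⟨y, hy, hc⟩ := hex
  rw [Finset.sum_congr rfl fun χ _ => by
    rw [← classFun_eq_of_isConj (irr_isClassFun χ) hc]]
  obtain ⟨c, hc', hcne⟩ := P.exists_piv P.dg.mem
  have hord := P.dg.toCyc.exists_order hsR
  have hk := kernel_one hM hord hord (P.toLoc.cent hsR hs1) (P.toLoc.fus hsR hs1 hsR) hy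
    (bEl_spec hM P.maxf P.dg.mem).1 hc'
  rw [P.pair_sum P.dg.mem hc'] at hk
  simp only [P.pair_char P.dg.mem hc'] at hk
  have e2 : ∑ χ : IrrCharacter G, lam a T χ s * conj ((χ : G → ℂ) ((s * y : zc σ h) : G)) =
      ∑ l : IrrCharacter a.1, sext a.1 (l : a.1 → ℂ) s * conj ((T l : zc σ h → ℂ) (s * y)) := by
    apply mul_right_cancel₀ hcne
    rw [Finset.sum_mul]
    exact Eq.trans (Finset.sum_congr rfl fun χ _ => by ring) hk
  rw [e2]
  simp only [P.val, starFun_apply hM.1 _ _ hord hy, map_sum, map_mul, Finset.mul_sum]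
  rw [Finset.sum_comm]
  refine memRing_sum hM fun b hb => ?_
  rw [Finset.sum_congr rfl fun (l : IrrCharacter a.1) _ => show
    ((2 * h : ℕ) : ℂ)⁻¹ * (sext a.1 (l : a.1 → ℂ) s *
        (conj (pairW 2 M a.1 a.2 (sext a.1 (l : a.1 → ℂ)) b s) *
          conj (pairVal b (ψ₀ : zc σ h → ℂ) (s * y)))) =
      ((2 * h : ℕ) : ℂ)⁻¹ * (sext a.1 (l : a.1 → ℂ) s *
        conj (pairW 2 M a.1 a.2 (sext a.1 (l : a.1 → ℂ)) b s)) *
          conj (pairVal b (ψ₀ : zc σ h → ℂ) (s * y)) by ring, ← Finset.sum_mul, ← Finset.mul_sum]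
  refine (loc hM).mul_mem ?_ (memRing_conj_pairVal hM (mem_pairsAt.1 hb).2 ψ₀ _)
  by_cases hw : b.1 = Subgroup.zpowers s ∧ ∃ t, Carries 2 M a.1 a.2 t b
  swap
  · simp only [pairW, dif_neg hw, map_zero, mul_zero, Finset.sum_const_zero]
    exact (loc hM).zero_mem
  simp only [pairW, dif_pos hw]
  have htA := carries_mem hw.1 hw.2.choose_spec
  generalize hw.2.choose * s * hw.2.choose⁻¹ = w at htA
  haveI := Fintype.ofFinite a.1
  have e : ∀ (l : IrrCharacter a.1) (x : zc σ h) (hx : x ∈ a.1),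
      sext a.1 (l : a.1 → ℂ) x = (l : a.1 → ℂ) ⟨x, hx⟩ := fun l x hx => sext_coe a.1 _ ⟨x, hx⟩
  have hd := P.dual (l := 1) (m := 1) one_pos (by omega) (by omega)
  simp only [pow_one, e _ _ P.dg.mem, if_true, if_neg (show ¬ (1 = 2 * h - 1) by omega),
    add_zero, mul_one] at hd
  rw [sum_irr_mul_conj, if_pos (IsConj.refl _)] at hd
  simp only [e _ _ P.dg.mem, e _ _ htA]
  rw [sum_irr_mul_conj, mul_ite, mul_zero, hd, inv_mul_cancel₀ hN]
  split_ifs
  · exact (loc hM).one_mem
  · exact (loc hM).zero_mem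

/-- The third moment of the column at the rotation. -/
noncomputable def moment (h : ℕ) [Fintype (zc σ h)] (B : Set (IrrCharacter G))
    (a : BrauerPairIdx (zc σ h))
    (T : IrrCharacter a.1 → IrrCharacter (zc σ h)) (s : zc σ h) : ℂ :=
  (Nat.card G : ℂ) / ((2 * h : ℕ) : ℂ) ^ 2 *
    ∑ χ ∈ bset B, lam a T χ s ^ 3 / (χ : G → ℂ) 1

/-- The centralizer of the rotation in the local subgroup. -/
abbrev sC (s : zc σ h) : Subgroup (zc σ h) :=
  Subgroup.centralizer ((Subgroup.zpowers s : Subgroup (zc σ h)) : Set (zc σ h))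

/-- **The congruence.** -/
theorem Par.moment_res (P : Par M B σ h f a s ψ₀ T) :
    ∃ w, MemLocalRing M w ∧ res P.hM w ≠ 0 ∧ MemLocalRing M (moment h B a T s * w) ∧
      res P.hM (moment h B a T s * w) = 0 := by
  classical
  have hM := P.hM
  haveI : Fact (Nat.Prime 2) := ⟨Nat.prime_two⟩
  haveI := res_charP hM
  haveI := res_isDomain hM
  haveI := Fintype.ofFinite a.1
  have h2 := P.cyc.two_le
  have hN : (2 * h : ℕ) ≠ 0 := by omega
  have hNc : ((2 * h : ℕ) : ℂ) ≠ 0 := Nat.cast_ne_zero.2 hN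
  have hsR : s ∈ Subgroup.zpowers s := Subgroup.mem_zpowers s
  have hs1 : s ≠ 1 := by simpa using P.dg.toCyc.pow_ne_one (l := 1) one_pos (by omega)
  have hord := P.dg.toCyc.exists_order hsR
  have hnil := P.toLoc.nilpotent
  -- the pair at the rotation
  obtain ⟨hb1, -, -⟩ := bEl_spec hM P.maxf P.dg.mem
  have hfe := fEl_eq_one hM P.maxf hnil P.mem0 P.h0 ⟨s, P.dg.mem⟩
  have hcard := card_centP_bEl hM P.maxf hnil P.dg.mem
  have hinf : (a.1 ⊓ Subgroup.centralizer ((Subgroup.zpowers s : Subgroup (zc σ h)) : Set (zc σ h)) :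
      Subgroup (zc σ h)) = Subgroup.zpowers s := by
    ext x
    constructor
    · rintro ⟨hxA, hxc⟩
      by_contra hn
      have h3 := P.dg.invert hxA hn hsR
      rw [((isCentr_zpowers s x).1 hxc).eq, mul_inv_cancel_right] at h3
      have h4 := Nat.le_of_dvd (by norm_num) (orderOf_dvd_of_pow_eq_one (x := s) (n := 2)
        (by rw [sq]; exact mul_eq_one_iff_eq_inv.2 h3))
      rw [P.dg.ord] at h4
      omega
    · intro hx
      refine ⟨P.dg.zle hx, (isCentr_zpowers s x).2 ?_⟩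
      obtain ⟨t, rfl⟩ := hx
      exact Commute.zpow_self s t
  rw [hinf, Nat.card_zpowers, P.dg.ord] at hcard
  have hchar : ∀ (χ : IrrCharacter G) (c : zc σ h), c ∈ regC 2 s →
      pairVal (bEl 2 M a.1 a.2 s) (fun k : zc σ h => (χ : G → ℂ) k) (s * c) =
        lam a T χ s * pairVal (bEl 2 M a.1 a.2 s) (ψ₀ : zc σ h → ℂ) (s * c) := fun χ c hc =>
    P.pair_char P.dg.mem hc χ
  unfold fEl fPair at hfe
  generalize bEl 2 M a.1 a.2 s = a' at hb1 hfe hcard hchar
  obtain ⟨Q, b⟩ := a'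
  obtain rfl : Q = Subgroup.zpowers s := (mem_pairsAt.1 hb1).1
  have hb : IsPBlock M b := (mem_pairsAt.1 hb1).2
  haveI := Fintype.ofFinite (sC s)
  have hC : IsCentr s (sC s) := isCentr_zpowers s
  set z : (sC s) := ⟨s, hC.self_mem⟩ with hzdef
  have hz : z ∈ Subgroup.center (sC s) :=
    Subgroup.mem_center_iff.2 fun g => Subtype.ext ((hC g).1 g.2).eq
  have hzord : orderOf z = 2 * h := by rw [← Subgroup.orderOf_coe]; exact P.dg.ord
  obtain ⟨θ, hθ⟩ := block_nonempty hM hb
  obtain ⟨hbc, hreg⟩ := central_cyclic_reg hM hz hzord hb hcard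
  obtain ⟨hsame, hnorm⟩ := hreg θ hθ
  obtain ⟨hu0, d, hd, hdne⟩ := central_cyclic_unit hM hz hzord hb hcard hθ
  have hθd : MemLocalRing M ((θ : (sC s) → ℂ) d) := memRing_irr hM θ d
  have hθdinv : MemLocalRing M ((θ : (sC s) → ℂ) d)⁻¹ :=
    memRing_inv hM hθd fun hI => hdne ((res_eq_zero_iff hM hθd).2 hI)
  have hdR : (d : zc σ h) ∈ regC 2 s := (regC_iff_coe hC).2 ⟨d.2, hd⟩
  have hbp : ∀ (ϑ : (sC s) → ℂ) (c : (sC s)), ¬ 2 ∣ orderOf c →
      blockPart b ϑ c = (∑ φ ∈ bset b, classInner ϑ (φ : (sC s) → ℂ)) * (θ : (sC s) → ℂ) c := by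
    intro ϑ c hc
    rw [blockPart_apply, Finset.sum_mul]
    exact Finset.sum_congr rfl fun φ hφ => by rw [hsame φ (mem_bset.1 hφ) c hc]
  -- the common character at the pair
  set x₀ : ℂ := ∑ φ ∈ bset b, classInner (sec s (sC s) (ψ₀ : zc σ h → ℂ)) (φ : (sC s) → ℂ) with hx₀
  obtain ⟨k₀, hk₀⟩ := hord
  have hx₀int : IsIntegral ℤ x₀ := IsIntegral.sum _ fun φ _ => (coeff_props hM hC hk₀ ψ₀ φ).2
  have hx₀n : x₀ * conj x₀ = 1 := by
    rw [← hfe]
    show _ = ((2 : ℕ) : ℂ) ^ blockDefect 2 b * (Nat.card (sC s) : ℂ)⁻¹ *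
      pairT 2 ⟨Subgroup.zpowers s, b⟩ s (ψ₀ : zc σ h → ℂ) (ψ₀ : zc σ h → ℂ)
    rw [pairT_eq hC (irr_isClassFun ψ₀) (irr_isClassFun ψ₀), secPair]
    have e : ∑ c ∈ Finset.univ.filter (fun c : (sC s) => ¬ 2 ∣ orderOf c),
        blockPart b (sec s (sC s) (ψ₀ : zc σ h → ℂ)) c *
          conj (blockPart b (sec s (sC s) (ψ₀ : zc σ h → ℂ)) c) =
        x₀ * conj x₀ * regS 2 (θ : (sC s) → ℂ) (θ : (sC s) → ℂ) := by
      rw [← sum_reg_norm, Finset.mul_sum]
      refine Finset.sum_congr rfl fun c hc => ?_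
      rw [hbp _ c (Finset.mem_filter.1 hc).2, map_mul]
      ring
    rw [e, show ((2 : ℕ) : ℂ) ^ blockDefect 2 b * (Nat.card (sC s) : ℂ)⁻¹ *
        (x₀ * conj x₀ * regS 2 (θ : (sC s) → ℂ) (θ : (sC s) → ℂ)) = x₀ * conj x₀ *
        ((Nat.card (sC s) : ℂ)⁻¹ * (((2 : ℕ) : ℂ) ^ blockDefect 2 b *
          regS 2 (θ : (sC s) → ℂ) (θ : (sC s) → ℂ))) by ring, hnorm,
      inv_mul_cancel₀ (Nat.cast_ne_zero.2 Nat.card_pos.ne'), mul_one]
  set w : ℂ := x₀ * (θ : (sC s) → ℂ) d with hwdef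
  have hwm : MemLocalRing M w := (loc hM).mul_mem (memRing_of_isIntegral hM hx₀int) hθd
  have hw0 : res hM w ≠ 0 := by
    rw [hwdef, res_mul hM (memRing_of_isIntegral hM hx₀int) hθd]
    refine mul_ne_zero (fun e => ?_) hdne
    have hcm : MemLocalRing M (conj x₀) :=
      memRing_of_isIntegral hM (hx₀int.map ((Complex.conjAe.toAlgHom).restrictScalars ℤ))
    have h1 := congrArg (res hM) hx₀n
    rw [res_mul hM (memRing_of_isIntegral hM hx₀int) hcm, e, zero_mul, res_one] at h1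
    exact zero_ne_one h1
  refine ⟨w, hwm, hw0, ?_⟩
  -- the class function and its square
  set α : IrrCharacter G → ℂ := fun χ => lam a T χ s / ((2 * h : ℕ) : ℂ) with hα
  set F : G → ℂ := fun g => ∑ χ : IrrCharacter G, α χ * (χ : G → ℂ) g with hFdef
  have hFcl : IsClassFunction G F := isClassFunction_sum _ _ _ fun χ => irr_isClassFun χ
  have hFm : ∀ g, MemLocalRing M (F g) := fun g => P.colFun_mem g
  set Φ : zc σ h → ℂ := fun k => conv F F (k : G) with hΦ
  have hΦcl : IsClassFunction (zc σ h) Φ := fun x t => conv_isClassFunction hFcl hFcl (x : G) (t : G)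
  have hπ : pairVal ⟨Subgroup.zpowers s, b⟩ (ψ₀ : zc σ h → ℂ) (s * (d : zc σ h)) = w := by
    rw [pairVal_eq hC (irr_isClassFun ψ₀), hbp _ d hd]
  have hmom : blockPart b (sec s (sC s) Φ) d = moment h B a T s * w := by
    rw [← pairVal_eq hC hΦcl b d]
    have e : Φ = fun k : zc σ h => ∑ χ : IrrCharacter G,
        ((Nat.card G : ℂ) / (χ : G → ℂ) 1 * α χ ^ 2) * (χ : G → ℂ) k :=
      funext fun k => conv_expand α (k : G)
    rw [e, pairVal_sum, Finset.sum_congr rfl fun χ _ => by rw [hchar χ _ hdR, hπ], moment,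
      Finset.mul_sum, Finset.sum_mul,
      ← Finset.sum_subset (Finset.subset_univ (bset B)) fun χ _ hχ => by
        rw [P.lam_off hsR hs1 fun hm => hχ (mem_bset.2 hm)]; ring]
    refine Finset.sum_congr rfl fun χ _ => ?_
    simp only [hα]
    have := irr_one_ne_zero χ
    field_simp
  -- reduction to the centralizer of the rotation
  set FK : (sC s) → ℂ := fun k => F ((k : zc σ h) : G) with hFK
  have hFKcl : IsClassFunction (sC s) FK := fun x t => hFcl ((x : zc σ h) : G) ((t : zc σ h) : G)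
  set C' : Subgroup G := (sC s).map (zc σ h).subtype with hC'
  haveI := Fintype.ofFinite C'
  have hC'c : IsCentr σ C' := by
    intro g
    constructor
    · rintro ⟨k, hk, rfl⟩
      have := ((hC k).1 hk).map (zc σ h).subtype
      rwa [Subgroup.coe_subtype, P.hs] at this
    · intro hg
      have hgH : g ∈ zc σ h := P.toLoc.cent hsR hs1 g (by rw [P.hs]; exact hg)
      exact ⟨⟨g, hgH⟩, (hC _).2 (Subtype.ext (by simp only [Subgroup.coe_mul, P.hs]; exact hg.eq)),
        rfl⟩
  have hσord : ∃ k, orderOf σ = 2 ^ k := P.cyc.exists_order (Subgroup.mem_zpowers σ)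
  set η : (sC s) → ℂ := fun k => conv FK FK (z * k) with hη
  have hηcl : IsClassFunction (sC s) η := by
    intro x t
    show conv FK FK (z * (t * x * t⁻¹)) = conv FK FK (z * x)
    rw [show z * (t * x * t⁻¹) = t * (z * x) * t⁻¹ by
      rw [← mul_assoc z, ← mul_assoc z, ← Subgroup.mem_center_iff.1 hz t, mul_assoc t z x]]
    exact conv_isClassFunction hFKcl hFKcl _ _
  have hΦm : ∀ k : (sC s), MemLocalRing M (sec s (sC s) Φ k) := fun k =>
    memRing_sum hM fun g _ => (loc hM).mul_mem (hFm _) (hFm _)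
  have hηm : ∀ k : (sC s), MemLocalRing M (η k) := fun k =>
    memRing_sum hM fun g _ => (loc hM).mul_mem (hFm _) (hFm _)
  have hcong : ∀ k : (sC s), res hM (sec s (sC s) Φ k) = res hM (η k) := by
    intro k
    have hg : ((s * (k : zc σ h) : zc σ h) : G) ∈ C' := ⟨_, (z * k).2, rfl⟩
    show res hM (conv F F ((s * (k : zc σ h) : zc σ h) : G)) = _
    rw [res_conv_cent hM hσord hFcl hFm hC'c hg]
    congr 1
    let e := (sC s).equivMapOfInjective (zc σ h).subtype Subtype.coe_injective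
    refine (Fintype.sum_equiv e.toEquiv _ _ fun t => ?_).symm
    rfl
  have hbcm : ∀ k : (sC s), MemLocalRing M (blockCoeff b k) := memRing_blockCoeff hM hb
  have hcl1 : IsClassFunction (sC s) (sec s (sC s) Φ) := sec_classFun hC hΦcl
  have hMW : MemLocalRing M (moment h B a T s * w) := by
    rw [← hmom, blockPart_eq_sum b hcl1]
    exact memRing_sum hM fun k _ => (loc hM).mul_mem (hbcm k) (hΦm _)
  refine ⟨hMW, ?_⟩
  rw [← hmom, blockPart_eq_sum b hcl1, res_sum hM fun k _ => (loc hM).mul_mem (hbcm k) (hΦm _),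
    Finset.sum_congr rfl fun k _ => by
      rw [res_mul hM (hbcm k) (hΦm _), hcong, ← res_mul hM (hbcm k) (hηm _)],
    ← res_sum hM fun k _ => (loc hM).mul_mem (hbcm k) (hηm _), ← blockPart_eq_sum b hηcl]
  -- the local expansion
  set W : IrrCharacter (sC s) → ℂ := fun φ => classInner FK (φ : (sC s) → ℂ) with hW
  have hexp : FK = fun k => ∑ φ : IrrCharacter (sC s), W φ * (φ : (sC s) → ℂ) k := funext fun k => by
    have h1 := congrFun (eq_sum_irr hFKcl) k
    simp only [Finset.sum_apply, Pi.smul_apply, smul_eq_mul] at h1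
    exact h1
  set r : ℕ → ℂ := fun i => ∑ φ ∈ bset b, W φ * cval z φ ^ i with hr
  have hrm : ∀ i, MemLocalRing M (r i) := by
    intro i
    set ϑ : (sC s) → ℂ := fun k => FK (z ^ i * k) with hϑ
    have hϑcl : IsClassFunction (sC s) ϑ := fun x t => by
      show FK (z ^ i * (t * x * t⁻¹)) = FK (z ^ i * x)
      rw [show z ^ i * (t * x * t⁻¹) = t * (z ^ i * x) * t⁻¹ by
        rw [← mul_assoc _ (t * x), ← mul_assoc _ t,
          ← Subgroup.mem_center_iff.1 ((Subgroup.center (sC s)).pow_mem hz i) t, mul_assoc t (z ^ i) x]]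
      exact hFKcl _ _
    have e : blockPart b ϑ d = r i * (θ : (sC s) → ℂ) d := by
      have e1 : ϑ = ∑ φ : IrrCharacter (sC s), (W φ * cval z φ ^ i) • (φ : (sC s) → ℂ) := funext fun k => by
        show FK (z ^ i * k) = _
        rw [hexp]
        simp only [Finset.sum_apply, Pi.smul_apply, smul_eq_mul]
        exact Finset.sum_congr rfl fun φ _ => by rw [cval_mul hz φ i k]; ring
      rw [e1, blockPart_linComb]
      simp only [blockPart_linear]
      rw [Finset.sum_congr rfl fun (φ : IrrCharacter (sC s)) _ => show W φ * cval z φ ^ i * (ind b φ * (φ : (sC s) → ℂ) d) =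
        ind b φ * (W φ * cval z φ ^ i * (φ : (sC s) → ℂ) d) by ring, sum_ind_mul, hr, Finset.sum_mul]
      exact Finset.sum_congr rfl fun φ hφ => by rw [hsame φ (mem_bset.1 hφ) d hd]
    have h1 : MemLocalRing M (blockPart b ϑ d) := by
      rw [blockPart_eq_sum b hϑcl]
      exact memRing_sum hM fun k _ => (loc hM).mul_mem (hbcm k) (hFm _)
    rw [e] at h1
    have h3 := (loc hM).mul_mem h1 hθdinv
    have hne : (θ : (sC s) → ℂ) d ≠ 0 := fun e0 => hdne (by rw [e0, res_zero])
    rwa [mul_inv_cancel_right₀ hne] at h3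
  have hone : ∀ φ ∈ bset b, (φ : (sC s) → ℂ) 1 = (θ : (sC s) → ℂ) 1 := fun φ hφ =>
    hsame φ (mem_bset.1 hφ) 1 (by simp)
  have hpw : ∀ φ : IrrCharacter (sC s), cval z φ ^ (2 * h) = 1 := fun φ =>
    hzord ▸ central_value_pow hz φ
  have hblock : blockPart b η d =
      (Nat.card (sC s) : ℂ) / (((2 * h : ℕ) : ℂ) * (θ : (sC s) → ℂ) 1) * (θ : (sC s) → ℂ) d *
        ∑ i ∈ Finset.range (2 * h), r i * r (2 * h + 1 - i) := by
    have e1 : η = ∑ φ : IrrCharacter (sC s),
        ((Nat.card (sC s) : ℂ) / (φ : (sC s) → ℂ) 1 * W φ ^ 2 * cval z φ) • (φ : (sC s) → ℂ) := funext fun k => by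
      show conv FK FK (z * k) = _
      rw [hexp, conv_expand]
      simp only [Finset.sum_apply, Pi.smul_apply, smul_eq_mul]
      refine Finset.sum_congr rfl fun φ _ => ?_
      have := cval_mul hz φ 1 k
      rw [pow_one, pow_one] at this
      rw [this]; ring
    rw [e1, blockPart_linComb]
    simp only [blockPart_linear]
    rw [Finset.sum_congr rfl fun (φ : IrrCharacter (sC s)) _ => show
      (Nat.card (sC s) : ℂ) / (φ : (sC s) → ℂ) 1 * W φ ^ 2 * cval z φ * (ind b φ * (φ : (sC s) → ℂ) d) =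
        ind b φ * ((Nat.card (sC s) : ℂ) / (φ : (sC s) → ℂ) 1 * W φ ^ 2 * cval z φ * (φ : (sC s) → ℂ) d) by ring,
      sum_ind_mul]
    have hrr : ∑ i ∈ Finset.range (2 * h), r i * r (2 * h + 1 - i) =
        ((2 * h : ℕ) : ℂ) * ∑ φ ∈ bset b, W φ ^ 2 * cval z φ := by
      have e2 : ∀ i ∈ Finset.range (2 * h), r (2 * h + 1 - i) =
          ∑ φ ∈ bset b, W φ * cval z φ * conj (cval z φ) ^ i := by
        intro i hi
        have hi' := Finset.mem_range.1 hi
        refine Finset.sum_congr rfl fun φ _ => ?_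
        rw [mul_assoc]
        congr 1
        have h3 : cval z φ ^ (2 * h + 1 - i) * cval z φ ^ i = cval z φ := by
          rw [← pow_add, Nat.sub_add_cancel (by omega), pow_succ, hpw, one_mul]
        conv_rhs => arg 1; rw [← h3]
        rw [mul_assoc, ← mul_pow, conj_root (hpw φ) hN, one_pow, mul_one]
      rw [Finset.sum_congr rfl fun i hi => by rw [e2 i hi, hr, Finset.sum_mul_sum], Finset.sum_comm,
        Finset.mul_sum]
      refine Finset.sum_congr rfl fun φ hφ => ?_
      rw [Finset.sum_comm, Finset.sum_congr rfl fun φ' hφ' => show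
        ∑ i ∈ Finset.range (2 * h), W φ * cval z φ ^ i * (W φ' * cval z φ' * conj (cval z φ') ^ i) =
          W φ * W φ' * cval z φ' * if φ = φ' then ((2 * h : ℕ) : ℂ) else 0 by
        rw [← central_cyclic_dual hM hz hzord hb hcard (mem_bset.1 hφ) (mem_bset.1 hφ'),
          Finset.mul_sum]
        exact Finset.sum_congr rfl fun i _ => by ring]
      simp only [mul_ite, mul_zero, Finset.sum_ite_eq, if_pos hφ]
      ring
    rw [hrr, Finset.mul_sum, Finset.mul_sum]
    refine Finset.sum_congr rfl fun φ hφ => ?_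
    rw [hone φ hφ, hsame φ (mem_bset.1 hφ) d hd]
    have := irr_one_ne_zero θ
    field_simp
  rw [hblock, res_mul hM ((loc hM).mul_mem hu0 hθd)
    (memRing_sum hM fun i _ => (loc hM).mul_mem (hrm i) (hrm _)),
    res_sum hM fun i _ => (loc hM).mul_mem (hrm i) (hrm _)]
  have hzero : ∑ i ∈ Finset.range (2 * h), res hM (r i * r (2 * h + 1 - i)) = 0 := by
    have hper : ∀ i, r (i + 2 * h) = r i := fun i =>
      Finset.sum_congr rfl fun φ _ => by rw [pow_add, hpw, mul_one]
    set g : ℕ → ℕ := fun i => if i ≤ 1 then 1 - i else 2 * h + 1 - i with hg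
    have hgr : ∀ i < 2 * h, g i < 2 * h ∧ g i ≠ i ∧ g (g i) = i ∧
        r (2 * h + 1 - i) = r (g i) ∧ r (2 * h + 1 - g i) = r i := by
      intro i hi
      rcases (show i = 0 ∨ i = 1 ∨ 2 ≤ i by omega) with rfl | rfl | hi2
      · refine ⟨by simp [hg]; omega, by simp [hg], by simp [hg], ?_, ?_⟩
        · simp only [hg, Nat.zero_le, if_true, Nat.sub_zero]
          rw [show 2 * h + 1 = 1 + 2 * h by omega, hper]
        · simp only [hg, Nat.zero_le, if_true, Nat.sub_zero]
          rw [show 2 * h + 1 - 1 = 0 + 2 * h by omega, hper]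
      · refine ⟨by simp [hg]; omega, by simp [hg], by simp [hg], ?_, ?_⟩
        · simp only [hg, le_refl, if_true, Nat.sub_self]
          rw [show 2 * h + 1 - 1 = 0 + 2 * h by omega, hper]
        · simp only [hg, le_refl, if_true, Nat.sub_self, Nat.sub_zero]
          rw [show 2 * h + 1 = 1 + 2 * h by omega, hper]
      · have e1 : g i = 2 * h + 1 - i := if_neg (by omega)
        have e2 : g (g i) = 2 * h + 1 - g i := if_neg (by omega)
        exact ⟨by omega, by omega, by omega, by rw [e1],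
          by rw [show 2 * h + 1 - g i = i by omega]⟩
    refine Finset.sum_involution (fun i _ => g i) (fun i hi => ?_) (fun i hi _ => ?_)
      (fun i hi => Finset.mem_range.2 (hgr i (Finset.mem_range.1 hi)).1)
      (fun i hi => (hgr i (Finset.mem_range.1 hi)).2.2.1)
    · obtain ⟨-, -, -, e1, e2⟩ := hgr i (Finset.mem_range.1 hi)
      rw [e1, e2, res_mul hM (hrm i) (hrm _), res_mul hM (hrm _) (hrm i), mul_comm (res hM (r (g i))),
        ← two_mul, show (2 : AlgInt ⧸ M) = ((2 : ℕ) : AlgInt ⧸ M) by norm_num,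
        CharP.cast_eq_zero, zero_mul]
    · exact (hgr i (Finset.mem_range.1 hi)).2.1
  rw [hzero, mul_zero]

end CfsgLib.Blocks.DihBlock
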