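import Mathlib

/-!
# Subgroups isomorphic to a dihedral two-group, with a chosen rotation
-/

namespace CfsgLib.Blocks.DihBlock

set_option linter.unusedVariables false
set_option linter.unusedSectionVars false

universe u

variable {K : Type u} [Group K] [Finite K]

/-- The element `σ` generates a cyclic group of order `2 * h`, a power of two. -/
structure Cyc (σ : K) (h : ℕ) : Prop where
  hpow : ∃ a : ℕ, h = 2 ^ (a + 1)
  ord : orderOf σ = 2 * h

variable {σ : K} {h : ℕ}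

theorem Cyc.two_le (hc : Cyc σ h) : 2 ≤ h := by
  obtain ⟨a, rfl⟩ := hc.hpow
  exact Nat.le_self_pow (by omega) 2

theorem Cyc.pow_two (hc : Cyc σ h) : ∃ k : ℕ, 2 * h = 2 ^ (k + 2) := by
  obtain ⟨a, rfl⟩ := hc.hpow
  exact ⟨a, by ring⟩

theorem Cyc.pow_N (hc : Cyc σ h) : σ ^ (2 * h) = 1 := hc.ord ▸ pow_orderOf_eq_one σ

theorem Cyc.z_ne (hc : Cyc σ h) : σ ^ h ≠ 1 ∧ σ ^ h * σ ^ h = 1 := by
  refine ⟨fun e => ?_, by rw [← pow_add, ← two_mul, hc.pow_N]⟩
  have := Nat.le_of_dvd (by have := hc.two_le; omega) (orderOf_dvd_of_pow_eq_one e)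
  rw [hc.ord] at this
  have := hc.two_le
  omega

theorem Cyc.sq_eq_one (hc : Cyc σ h) {u : K} (hu : u ∈ Subgroup.zpowers σ) (h2 : u * u = 1) :
    u = 1 ∨ u = σ ^ h := by
  obtain ⟨t, rfl⟩ := (IsOfFinOrder.mem_powers_iff_mem_zpowers (isOfFinOrder_of_finite σ)).2 hu
  simp only at h2 ⊢
  rw [← pow_add] at h2
  obtain ⟨q, hq⟩ := (orderOf_dvd_of_pow_eq_one h2).trans (dvd_refl _)
  rw [hc.ord] at hq
  have hq' : t = h * q := by nlinarith
  rcases q.even_or_odd with ⟨r, hr⟩ | ⟨r, hr⟩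
  · left
    rw [hq', hr, ← two_mul, ← mul_assoc, mul_comm h 2, pow_mul, hc.pow_N, one_pow]
  · right
    rw [hq', hr, mul_add, mul_one, pow_add, ← mul_assoc, mul_comm h 2, pow_mul, hc.pow_N,
      one_pow, one_mul]

theorem Cyc.exists_order (hc : Cyc σ h) {u : K} (hu : u ∈ Subgroup.zpowers σ) :
    ∃ k, orderOf u = 2 ^ k := by
  obtain ⟨k, hk⟩ := hc.pow_two
  have h1 : orderOf u ∣ 2 * h := by
    rw [← hc.ord]
    exact (Subgroup.orderOf_dvd_natCard _ hu).trans (dvd_of_eq (Nat.card_zpowers σ))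
  rw [hk] at h1
  exact ((Nat.dvd_prime_pow Nat.prime_two).1 h1).imp fun i hi => hi.2

theorem Cyc.exists_root (hc : Cyc σ h) {u : K} (hu : u ∈ Subgroup.zpowers σ) (h1 : u ≠ 1) :
    ∃ j : ℕ, orderOf u = 2 ^ (j + 1) ∧ u ^ 2 ^ j = σ ^ h := by
  obtain ⟨k, hk⟩ := hc.exists_order hu
  rcases k with _ | j
  · rw [pow_zero, orderOf_eq_one_iff] at hk
    exact absurd hk h1
  refine ⟨j, hk, (hc.sq_eq_one (Subgroup.pow_mem _ hu _) ?_).resolve_left fun e => ?_⟩
  · rw [← pow_add, ← two_mul, ← pow_succ', ← hk, pow_orderOf_eq_one]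
  · have := Nat.le_of_dvd (by positivity) (orderOf_dvd_of_pow_eq_one e)
    rw [hk, pow_succ] at this
    have := Nat.one_le_two_pow (n := j)
    omega

theorem Cyc.z_mem (hc : Cyc σ h) {u : K} (hu : u ∈ Subgroup.zpowers σ) (h1 : u ≠ 1) :
    σ ^ h ∈ Subgroup.zpowers u := by
  obtain ⟨j, -, hj⟩ := hc.exists_root hu h1
  rw [← hj]
  exact Subgroup.npow_mem_zpowers u _

/-- Conjugating one rotation to another fixes the involution. -/
theorem Cyc.conj_z (hc : Cyc σ h) {u v : K} (hu : u ∈ Subgroup.zpowers σ) (h1 : u ≠ 1)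
    (hv : v ∈ Subgroup.zpowers σ) {x : K} (hx : x * u * x⁻¹ = v) :
    x * σ ^ h * x⁻¹ = σ ^ h := by
  obtain ⟨j, hk, hj⟩ := hc.exists_root hu h1
  have e : x * σ ^ h * x⁻¹ = v ^ 2 ^ j := by rw [← hj, ← hx, conj_pow]
  refine e.trans ((hc.sq_eq_one (Subgroup.pow_mem _ hv _) ?_).resolve_left fun e1 => ?_)
  · rw [← e, show x * σ ^ h * x⁻¹ * (x * σ ^ h * x⁻¹) = x * (σ ^ h * σ ^ h) * x⁻¹ by group,
      hc.z_ne.2]
    group
  · rw [← e, conj_eq_one_iff] at e1
    exact hc.z_ne.1 e1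

theorem Cyc.pow_ne_one (hc : Cyc σ h) {l : ℕ} (h0 : 0 < l) (hl : l < 2 * h) : σ ^ l ≠ 1 :=
  fun e => by
    have := Nat.le_of_dvd h0 (orderOf_dvd_of_pow_eq_one e)
    rw [hc.ord] at this
    omega

theorem Cyc.pow_inj (hc : Cyc σ h) {l m : ℕ} (hl : l < 2 * h) (hm : m < 2 * h)
    (e : σ ^ l = σ ^ m) : l = m :=
  pow_injOn_Iio_orderOf (by rw [Set.mem_Iio, hc.ord]; exact hl)
    (by rw [Set.mem_Iio, hc.ord]; exact hm) e

theorem Cyc.pow_sub' (hc : Cyc σ h) {l : ℕ} (hl : l ≤ 2 * h) : σ ^ (2 * h - l) = (σ ^ l)⁻¹ := by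
  refine (eq_inv_of_mul_eq_one_left ?_)
  rw [← pow_add, Nat.sub_add_cancel hl, hc.pow_N]

/-- The subgroup `A` is dihedral with rotation subgroup generated by `σ`. -/
structure DG (A : Subgroup K) (σ : K) (h : ℕ) : Prop extends Cyc σ h where
  iso : Nonempty (A ≃* DihedralGroup (2 * h))
  mem : σ ∈ A

variable {A : Subgroup K}

theorem DG.zle (hd : DG A σ h) : Subgroup.zpowers σ ≤ A := Subgroup.zpowers_le.2 hd.mem

theorem DG.card (hd : DG A σ h) : Nat.card A = 2 * (2 * h) := by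
  obtain ⟨e⟩ := hd.iso
  exact (Nat.card_congr e.toEquiv).trans DihedralGroup.nat_card

theorem DG.out (hd : DG A σ h) {s : K} (hs : s ∈ A) (hns : s ∉ Subgroup.zpowers σ) :
    s * s = 1 ∧ s * σ * s⁻¹ = σ⁻¹ := by
  obtain ⟨e⟩ := hd.iso
  have h2 := hd.toCyc.two_le
  haveI : NeZero (2 * h) := ⟨by omega⟩
  have ho : orderOf (e ⟨σ, hd.mem⟩) = 2 * h := by
    rw [MulEquiv.orderOf_eq, Subgroup.orderOf_mk, hd.ord]
  cases hj : e ⟨σ, hd.mem⟩ with
  | sr i =>
    rw [hj, DihedralGroup.orderOf_sr] at ho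
    omega
  | r j =>
    rw [hj] at ho
    have hzp : Subgroup.zpowers (DihedralGroup.r j) =
        Subgroup.zpowers (DihedralGroup.r (1 : ZMod (2 * h))) := by
      refine Subgroup.eq_of_le_of_card_ge (Subgroup.zpowers_le.2 ⟨(j.val : ℤ), ?_⟩) ?_
      · show (DihedralGroup.r 1 : DihedralGroup (2 * h)) ^ (j.val : ℤ) = _
        rw [DihedralGroup.r_one_zpow]
        simp
      · rw [Nat.card_zpowers, Nat.card_zpowers, ho, DihedralGroup.orderOf_r_one]
    cases hk : e ⟨s, hs⟩ with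
    | r i =>
      exfalso
      have hi : DihedralGroup.r i ∈ Subgroup.zpowers (DihedralGroup.r j) := by
        rw [hzp]
        refine ⟨(i.val : ℤ), ?_⟩
        show (DihedralGroup.r 1 : DihedralGroup (2 * h)) ^ (i.val : ℤ) = _
        rw [DihedralGroup.r_one_zpow]
        simp
      obtain ⟨t, ht⟩ := hi
      refine hns ⟨t, ?_⟩
      have : (⟨σ, hd.mem⟩ : A) ^ t = ⟨s, hs⟩ := e.injective (by
        rw [map_zpow, hj, hk]
        exact ht)
      exact congrArg Subtype.val this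
    | sr i =>
      have h1 : (⟨s, hs⟩ : A) * ⟨s, hs⟩ = 1 := e.injective (by
        rw [map_mul, hk, DihedralGroup.sr_mul_self, map_one])
      have h3 : (⟨s, hs⟩ : A) * ⟨σ, hd.mem⟩ * ⟨s, hs⟩⁻¹ = ⟨σ, hd.mem⟩⁻¹ :=
        e.injective (by rw [map_mul, map_mul, map_inv, map_inv, hk, hj]; simp)
      exact ⟨congrArg Subtype.val h1, congrArg Subtype.val h3⟩

theorem DG.exists_out (hd : DG A σ h) : ∃ s ∈ A, s ∉ Subgroup.zpowers σ := by
  by_contra hc
  push Not at hc
  have h1 := Subgroup.card_le_of_le (show A ≤ Subgroup.zpowers σ from hc)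
  rw [Nat.card_zpowers, hd.ord, hd.card] at h1
  have := hd.toCyc.two_le
  omega

theorem DG.invert (hd : DG A σ h) {s : K} (hs : s ∈ A) (hns : s ∉ Subgroup.zpowers σ) {u : K}
    (hu : u ∈ Subgroup.zpowers σ) : s * u * s⁻¹ = u⁻¹ := by
  obtain ⟨t, rfl⟩ := hu
  show s * σ ^ t * s⁻¹ = (σ ^ t)⁻¹
  rw [← conj_zpow, (hd.out hs hns).2, inv_zpow]

theorem DG.sq_ne_one_mem (hd : DG A σ h) {x : K} (hx : x ∈ A) (h2 : x * x ≠ 1) :
    x ∈ Subgroup.zpowers σ := by
  by_contra hn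
  exact h2 (hd.out hx hn).1

/-- The product of two reflections is a rotation. -/
theorem DG.out_mul_out (hd : DG A σ h) {s t : K} (hs : s ∈ A) (ht : t ∈ A)
    (hns : s ∉ Subgroup.zpowers σ) (hnt : t ∉ Subgroup.zpowers σ) :
    s * t ∈ Subgroup.zpowers σ := by
  by_contra hn
  have h1 := hd.invert (A.mul_mem hs ht) hn (Subgroup.mem_zpowers σ)
  rw [show s * t * σ * (s * t)⁻¹ = s * (t * σ * t⁻¹) * s⁻¹ by group,
    hd.invert ht hnt (Subgroup.mem_zpowers σ),
    hd.invert hs hns (Subgroup.inv_mem _ (Subgroup.mem_zpowers σ)), inv_inv] at h1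
  have h3 := Nat.le_of_dvd (by norm_num) (orderOf_dvd_of_pow_eq_one (x := σ) (n := 2)
    (by rw [sq]; exact mul_eq_one_iff_eq_inv.2 h1))
  rw [hd.ord] at h3
  have := hd.toCyc.two_le
  omega

theorem DG.z_central (hd : DG A σ h) {s : K} (hs : s ∈ A) : Commute s (σ ^ h) := by
  by_cases hn : s ∈ Subgroup.zpowers σ
  · obtain ⟨t, rfl⟩ := hn
    exact (Commute.zpow_self σ t).pow_right h
  · have h1 := hd.invert hs hn (Subgroup.npow_mem_zpowers σ h)
    rw [← eq_inv_of_mul_eq_one_left hd.toCyc.z_ne.2] at h1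
    exact mul_inv_eq_iff_eq_mul.1 h1

theorem DG.conj_eq (hd : DG A σ h) {s u : K} (hs : s ∈ A) (hu : u ∈ Subgroup.zpowers σ) :
    s * u * s⁻¹ = if s ∈ Subgroup.zpowers σ then u else u⁻¹ := by
  classical
  split_ifs with hn
  · obtain ⟨a, rfl⟩ := hu
    obtain ⟨b, rfl⟩ := hn
    rw [(Commute.zpow_zpow_self σ b a).eq, mul_inv_cancel_right]
  · exact hd.invert hs hn hu

/-- An element of odd order fixing the involution and normalising a subgroup of `A`
centralises it. -/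
theorem DG.centralizes (hd : DG A σ h) {Q : Subgroup K} (hQ : Q ≤ A) {x : K}
    (hx : ¬ 2 ∣ orderOf x) (hxz : Commute x (σ ^ h)) (hxQ : ∀ y ∈ Q, x * y * x⁻¹ ∈ Q) :
    ∀ y ∈ Q, Commute x y := by
  classical
  haveI : Fact (Nat.Prime 2) := ⟨Nat.prime_two⟩
  set R := Subgroup.zpowers σ with hR
  -- the rotations in `Q` are invariant
  have hinv : ∀ y ∈ Q, y ∈ R → x * y * x⁻¹ ∈ R := by
    intro y hy hyR
    by_cases h2 : y * y = 1
    · rcases hd.toCyc.sq_eq_one hyR h2 with rfl | rfl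
      · simp [R.one_mem]
      · rw [hxz.eq, mul_inv_cancel_right]; exact hyR
    · refine hd.sq_ne_one_mem (hQ (hxQ y hy)) fun e => h2 ?_
      rw [show x * y * x⁻¹ * (x * y * x⁻¹) = x * (y * y) * x⁻¹ by group, conj_eq_one_iff] at e
      exact e
  set C := Q ⊓ R with hC
  have hxN : x ∈ Subgroup.normalizer (C : Set K) :=
    Subgroup.mem_normalizer_fintype fun y hy => ⟨hxQ y hy.1, hinv y hy.1 hy.2⟩
  have hCx : ∀ y ∈ C, Commute x y := by
    haveI : IsCyclic C := Subgroup.isCyclic_of_le (show C ≤ R from inf_le_right)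
    obtain ⟨k, hk⟩ := hd.toCyc.pow_two
    have hCc : ∃ i, Nat.card C = 2 ^ i := by
      have h1 : Nat.card C ∣ 2 ^ (k + 2) := by
        rw [← hk, ← hd.ord, ← Nat.card_zpowers]
        exact Subgroup.card_dvd_of_le inf_le_right
      exact ((Nat.dvd_prime_pow Nat.prime_two).1 h1).imp fun i hi => hi.2
    obtain ⟨i, hi⟩ := hCc
    set w : Subgroup.normalizer (C : Set K) := ⟨x, hxN⟩
    have h1 : orderOf (C.normalizerMonoidHom w) ∣ orderOf x := by
      rw [← Subgroup.orderOf_mk x hxN]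
      exact orderOf_map_dvd _ w
    have h2 : orderOf (C.normalizerMonoidHom w) ∣ 2 ^ i := by
      refine (orderOf_dvd_natCard _).trans ?_
      rw [IsCyclic.card_mulAut, hi]
      rcases i with _ | i
      · simp
      · rw [Nat.totient_prime_pow_succ Nat.prime_two]
        exact ⟨2, by ring⟩
    have h3 : C.normalizerMonoidHom w = 1 := orderOf_eq_one_iff.1
      (Nat.eq_one_of_dvd_coprimes
        ((Nat.prime_two.coprime_iff_not_dvd.2 hx).pow_left i) h2 h1)
    have h4 : w ∈ C.normalizerMonoidHom.ker := h3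
    rw [Subgroup.normalizerMonoidHom_ker] at h4
    exact fun y hy => (Subgroup.mem_centralizer_iff.1 (Subgroup.mem_subgroupOf.1 h4) y hy).symm
  intro y hy
  by_cases hyR : y ∈ R
  · exact hCx y ⟨hy, hyR⟩
  set y' := x * y * x⁻¹ with hy'
  have hy'R : y' ∉ R := by
    intro h'
    apply hyR
    -- the inverse of `x` also preserves the rotations in `Q`
    have hmem : y' ∈ C := ⟨hxQ y hy, h'⟩
    have h5 := hCx y' hmem
    have : y = y' := by
      calc y = x⁻¹ * (y' * x) := by rw [hy']; group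
        _ = y' := by rw [← h5.eq, inv_mul_cancel_left]
    rw [this]; exact h'
  have hc : y' * y ∈ C :=
    ⟨Q.mul_mem (hxQ y hy) hy, hd.out_mul_out (hQ (hxQ y hy)) (hQ hy) hy'R hyR⟩
  have hyy := (hd.out (hQ hy) hyR).1
  have hstep : ∀ m : ℕ, x ^ m * y * (x ^ m)⁻¹ = (y' * y) ^ m * y := by
    intro m
    induction m with
    | zero => simp
    | succ m ih =>
      rw [pow_succ' x, show x * x ^ m * y * (x * x ^ m)⁻¹ = x * (x ^ m * y * (x ^ m)⁻¹) * x⁻¹ by
        group, ih, show x * ((y' * y) ^ m * y) * x⁻¹ = x * (y' * y) ^ m * x⁻¹ * y' by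
        generalize (y' * y) ^ m = b
        rw [hy']; group, ((hCx _ hc).pow_right m).eq, mul_inv_cancel_right, pow_succ]
      generalize (y' * y) ^ m = b
      rw [mul_assoc, mul_assoc y', hyy, mul_one]
  have h6 : (y' * y) ^ orderOf x = 1 := by
    have := hstep (orderOf x)
    rw [pow_orderOf_eq_one, inv_one, one_mul, mul_one] at this
    exact mul_eq_right.1 this.symm
  have h7 : y' * y = 1 := by
    obtain ⟨k, hk⟩ := hd.toCyc.exists_order hc.2
    exact orderOf_eq_one_iff.1 (Nat.eq_one_of_dvd_coprimes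
      ((Nat.prime_two.coprime_iff_not_dvd.2 hx).pow_left k) (dvd_of_eq hk)
      (orderOf_dvd_of_pow_eq_one h6))
  have h8 : y' = y := by
    calc y' = y' * (y * y) := by rw [hyy, mul_one]
      _ = y := by rw [← mul_assoc, h7, one_mul]
  exact mul_inv_eq_iff_eq_mul.1 h8

end CfsgLib.Blocks.DihBlock
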