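import Cfsg.Agent.Lib.Blocks.DihBlock.Restrict
import Cfsg.Agent.Lib.Blocks.DihBlock.Group

/-!
# The local block at the involution of a dihedral defect group
-/

namespace CfsgLib.Blocks.DihBlock

open Cfsg CfsgLib.CharTheory
open scoped ComplexConjugate

set_option linter.unusedVariables false
set_option linter.unusedSimpArgs false
set_option linter.style.haveILetI false
set_option linter.unusedSectionVars false

universe u

variable {G : Type u} [Group G] [Fintype G]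

/-- The centralizer of the involution. -/
abbrev zc (σ : G) (h : ℕ) : Subgroup G :=
  Subgroup.centralizer ((Subgroup.zpowers (σ ^ h) : Subgroup G) : Set G)

variable {M : Ideal AlgInt} {B : Set (IrrCharacter G)} {σ : G} {h : ℕ}

/-- The block at the involution and a maximal pair of it. -/
structure Loc (M : Ideal AlgInt) (B : Set (IrrCharacter G)) (σ : G) (h : ℕ) [Fintype (zc σ h)]
    (f : Set (IrrCharacter (zc σ h))) (a : BrauerPairIdx (zc σ h)) (s : zc σ h) : Prop where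
  hM : IsPModular 2 M
  dg : DG a.1 s h
  hs : (s : G) = σ
  cyc : Cyc σ h
  ind : IsInducedBlock M (zc σ h) f B
  hdef : blockDefect 2 f = blockDefect 2 B
  maxf : IsMaximalBrauerPair 2 M f a.1 a.2
  hup : ∃ (D : Subgroup G) (e : Set (IrrCharacter (Subgroup.centralizer (D : Set G))))
    (ha : Subgroup.centralizer ((a.1.map (zc σ h).subtype : Subgroup G) : Set G) ≤ zc σ h),
      upIdx a ha = ⟨D, e⟩ ∧ IsMaximalBrauerPair 2 M B D e

/-- The local data exist. -/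
theorem exists_loc (hM : IsPModular 2 M) (hB : IsPBlock M B) {D : Subgroup G}
    (hD : IsDefectGroup 2 M B D) (hd : DG D σ h) [Fintype (zc σ h)] :
    ∃ f a s, Loc M B σ h f a s := by
  classical
  obtain ⟨e, hmax⟩ := exists_maximal_at hM hB hD
  have hDC : D ≤ zc σ h := fun x hx =>
    (isCentr_zpowers (σ ^ h) x).2 (hd.z_central hx)
  have hQ : Subgroup.zpowers (σ ^ h) ≤ D :=
    Subgroup.zpowers_le.2 (hd.zle (Subgroup.npow_mem_zpowers σ h))
  obtain ⟨f, hind, hdef, a, ha, hup, hmax'⟩ := exists_local_centralized hM hmax hQ hDC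
  have hmap := le_map_subtype_of_eq hup
  have hσ : σ ∈ a.1.map (zc σ h).subtype := by
    show σ ∈ a.1.map (Subgroup.centralizer ((Subgroup.zpowers (σ ^ h) : Subgroup G) : Set G)).subtype
    rw [hmap]; exact hd.mem
  obtain ⟨s, hs, hsσ⟩ := hσ
  have hsσ' : (s : G) = σ := hsσ
  obtain ⟨i⟩ := hd.iso
  refine ⟨f, a, s, hM, ⟨⟨hd.toCyc.hpow, ?_⟩,
    ⟨((a.1.equivMapOfInjective _ Subtype.coe_injective).trans
      (MulEquiv.subgroupCongr hmap)).trans i⟩, hs⟩, hsσ', hd.toCyc, hind, hdef, hmax',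
    D, e, ha, hup, hmax⟩
  rw [← Subgroup.orderOf_coe, hsσ', hd.ord]

variable [Fintype (zc σ h)] {f : Set (IrrCharacter (zc σ h))} {a : BrauerPairIdx (zc σ h)}
  {s : zc σ h}

theorem Loc.hf (L : Loc M B σ h f a s) : IsPBlock M f := L.maxf.1.2.1

theorem Loc.hB (L : Loc M B σ h f a s) : IsPBlock M B := L.ind.2.1

theorem Loc.z_eq (L : Loc M B σ h f a s) : ((s ^ h : zc σ h) : G) = σ ^ h := by
  rw [SubmonoidClass.coe_pow, L.hs]

theorem Loc.z_center (L : Loc M B σ h f a s) : s ^ h ∈ Subgroup.center (zc σ h) := by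
  refine Subgroup.mem_center_iff.2 fun g => Subtype.ext ?_
  simp only [Subgroup.coe_mul, L.z_eq]
  exact ((isCentr_zpowers (σ ^ h) (g : G)).1 g.2).eq

theorem Loc.coe_mem (L : Loc M B σ h f a s) {u : zc σ h} (hu : u ∈ Subgroup.zpowers s) :
    (u : G) ∈ Subgroup.zpowers σ := by
  obtain ⟨t, rfl⟩ := hu
  exact ⟨t, by simp [L.hs]⟩

theorem Loc.coe_ne (L : Loc M B σ h f a s) {u : zc σ h} (h1 : u ≠ 1) : (u : G) ≠ 1 := fun e =>
  h1 (Subtype.ext e)

/-- The centralizer of a rotation lies in the local subgroup. -/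
theorem Loc.cent (L : Loc M B σ h f a s) {u : zc σ h} (hu : u ∈ Subgroup.zpowers s) (h1 : u ≠ 1)
    (x : G) (hx : Commute x (u : G)) : x ∈ zc σ h := by
  refine (isCentr_zpowers (σ ^ h) x).2 ?_
  obtain ⟨t, ht⟩ := L.cyc.z_mem (L.coe_mem hu) (L.coe_ne h1)
  rw [← ht]
  exact hx.zpow_right t

/-- Elements conjugating a rotation to a rotation lie in the local subgroup. -/
theorem Loc.fus (L : Loc M B σ h f a s) {u v : zc σ h} (hu : u ∈ Subgroup.zpowers s) (h1 : u ≠ 1)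
    (hv : v ∈ Subgroup.zpowers s) (x : G) (hx : x * (u : G) * x⁻¹ = v) : x ∈ zc σ h :=
  (isCentr_zpowers (σ ^ h) x).2
    (mul_inv_eq_iff_eq_mul.1 (L.cyc.conj_z (L.coe_mem hu) (L.coe_ne h1) (L.coe_mem hv) hx))

/-- The pair at a rotation is a pair of the block of the whole group. -/
theorem Loc.pair_up (L : Loc M B σ h f a s) {u : zc σ h} (hu : u ∈ Subgroup.zpowers s)
    (h1 : u ≠ 1) :
    ∃ hb : Subgroup.centralizer (((bEl 2 M a.1 a.2 u).1.map (zc σ h).subtype : Subgroup G) : Set G)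
        ≤ zc σ h,
      upIdx (bEl 2 M a.1 a.2 u) hb ∈ pairsAt M (Subgroup.zpowers (u : G)) ∧
      IsBrauerPairOf 2 M B (upIdx (bEl 2 M a.1 a.2 u) hb).1
        (upIdx (bEl 2 M a.1 a.2 u) hb).2 := by
  have huA : u ∈ a.1 := L.dg.zle hu
  have hmap : (bEl 2 M a.1 a.2 u).1.map (zc σ h).subtype = Subgroup.zpowers (u : G) := by
    show (Subgroup.zpowers u).map (zc σ h).subtype = _
    exact MonoidHom.map_zpowers (zc σ h).subtype u
  have hQ : Subgroup.centralizer ((Subgroup.zpowers (u : G) : Subgroup G) : Set G) ≤ zc σ h :=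
    fun x hx => L.cent hu h1 x ((isCentr_zpowers (u : G) x).1 hx)
  have hb : Subgroup.centralizer
      (((bEl 2 M a.1 a.2 u).1.map (zc σ h).subtype : Subgroup G) : Set G) ≤ zc σ h := hmap ▸ hQ
  obtain ⟨hblk, hle⟩ := subIdx_spec L.hM (a := (⟨a.1, a.2⟩ : BrauerPairIdx (zc σ h)))
    L.maxf.1.1.1 L.maxf.1.1.2 (Q := Subgroup.zpowers u) (Subgroup.zpowers_le.2 huA)
  obtain ⟨hb', hle'⟩ := subpair_up hQ hle hmap.ge hb
  obtain ⟨D, e, ha, hup, hmax⟩ := L.hup
  have hle2 : Relation.ReflTransGen (NormalSubpairRel 2 M) (upIdx (bEl 2 M a.1 a.2 u) hb)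
      ⟨D, e⟩ := hup ▸ hle'
  have h2 : IsBrauerPairOf 2 M B (upIdx (bEl 2 M a.1 a.2 u) hb).1
      (upIdx (bEl 2 M a.1 a.2 u) hb).2 :=
    (pairOf_subpair_iff L.hM hle2 B).2 hmax.1
  exact ⟨hb, mem_pairsAt.2 ⟨hmap, h2.1.2⟩, h2⟩

/-- Outside the block the pairings at rotations vanish. -/
theorem Loc.pair_off (L : Loc M B σ h f a s) {u : zc σ h} (hu : u ∈ Subgroup.zpowers s)
    (h1 : u ≠ 1) {χ : IrrCharacter G} (hχ : χ ∉ B) {c : zc σ h} (hc : c ∈ regC 2 u) :
    pairVal (bEl 2 M a.1 a.2 u) (fun k : zc σ h => (χ : G → ℂ) k) (u * c) = 0 := by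
  obtain ⟨hb, hm, hp⟩ := L.pair_up hu h1
  rw [← pairVal_up _ hb (χ : G → ℂ) (u * c), Subgroup.coe_mul]
  exact pairVal_off' L.hM hχ (L.cyc.exists_order (L.coe_mem hu)) hm hp
    (mem_regC.2 ⟨(mem_regC.1 hc).1.map (zc σ h).subtype,
      by rw [Subgroup.orderOf_coe]; exact (mem_regC.1 hc).2⟩)

/-- The local block is nilpotent. -/
theorem Loc.nilpotent (L : Loc M B σ h f a s) : IsNilpotentBlock 2 M f := by
  refine ⟨L.hf, fun Q g hQ x hxN _ hxr => ?_⟩
  obtain ⟨t, ht⟩ := (carries_iff_pairOf L.hM L.maxf (a := ⟨Q, g⟩)).2 hQ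
  have hle : Q.map (MulAut.conj t).toMonoidHom ≤ a.1 :=
    subpairLE_le (a := conjIdx t (⟨Q, g⟩ : BrauerPairIdx (zc σ h))) (b := ⟨a.1, a.2⟩) ht
  have hz : Commute (t * x * t⁻¹) (s ^ h) :=
    (Subgroup.mem_center_iff.1 L.z_center (t * x * t⁻¹))
  have hc := L.dg.centralizes hle (x := t * x * t⁻¹)
    (by rw [conj_orderOf]; exact hxr) hz (by
      rintro _ ⟨q, hq, rfl⟩
      refine ⟨x * q * x⁻¹, (Subgroup.mem_normalizer_iff.1 hxN q).1 hq, ?_⟩
      simp only [MulEquiv.coe_toMonoidHom, MulAut.conj_apply]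
      group)
  intro q hq
  exact ((Commute.conj_iff t).1 (hc _ ⟨q, hq, rfl⟩)).eq.symm

/-- The characters of the local block from those of the defect group. -/
structure Par (M : Ideal AlgInt) (B : Set (IrrCharacter G)) (σ : G) (h : ℕ) [Fintype (zc σ h)]
    (f : Set (IrrCharacter (zc σ h))) (a : BrauerPairIdx (zc σ h)) (s : zc σ h)
    (ψ₀ : IrrCharacter (zc σ h)) (T : IrrCharacter a.1 → IrrCharacter (zc σ h)) : Prop
    extends Loc M B σ h f a s where
  mem0 : ψ₀ ∈ f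
  h0 : dv 2 (ψ₀ : zc σ h → ℂ) = minDv 2 f
  inj : Function.Injective T
  cover : ∀ ψ, ψ ∈ f ↔ ∃ l, T l = ψ
  val : ∀ l, (T l : zc σ h → ℂ) =
    starFun 2 M (pairW 2 M a.1 a.2 (sext a.1 (l : a.1 → ℂ))) (ψ₀ : zc σ h → ℂ)
  stab : ∀ l : IrrCharacter a.1, IsStableFun 2 M a.1 a.2 (sext a.1 (l : a.1 → ℂ))

theorem Loc.exists_par (L : Loc M B σ h f a s) : ∃ ψ₀ T, Par M B σ h f a s ψ₀ T := by
  classical
  haveI : Fact (Nat.Prime 2) := ⟨Nat.prime_two⟩
  haveI := Fintype.ofFinite a.1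
  have hM := L.hM
  have hnil := L.nilpotent
  obtain ⟨ψ₀, hψ, h0⟩ := exists_height_zero hM L.hf
  set η : IrrCharacter a.1 → zc σ h → ℂ := fun l => sext a.1 (l : a.1 → ℂ) with hη
  have hval : ∀ (l : IrrCharacter a.1) (v : a.1), η l v = (l : a.1 → ℂ) v := fun l v =>
    sext_coe a.1 _ v
  have hstab : ∀ l, IsStableFun 2 M a.1 a.2 (η l) := fun l =>
    stable_of_class hM L.maxf hnil fun v hv x hx => by
      have h2 := irr_isClassFun l ⟨x, hx⟩ ⟨v, hv⟩
      rw [← hval, ← hval] at h2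
      exact h2
  have hinner : ∀ l l' : IrrCharacter a.1,
      classInner (starFun 2 M (pairW 2 M a.1 a.2 (η l)) (ψ₀ : zc σ h → ℂ))
        (starFun 2 M (pairW 2 M a.1 a.2 (η l')) (ψ₀ : zc σ h → ℂ)) =
      classInner (l : a.1 → ℂ) (l' : a.1 → ℂ) := by
    intro l l'
    rw [classInner_nilpotent hM L.maxf hnil hψ (hstab l) (hstab l'), classInner]
    congr 1
    refine Finset.sum_congr rfl fun v _ => ?_
    rw [fEl_eq_one hM L.maxf hnil hψ h0 v, mul_one, hval, hval]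
  have hη1 : ∀ l, η l 1 = (charDegree (l : a.1 → ℂ) : ℂ) := fun l => by
    rw [irr_charDegree_cast l, show η l 1 = η l ((1 : a.1) : zc σ h) from rfl, hval]
  have hirr : ∀ l, IsIrrCharacter (zc σ h)
      (starFun 2 M (pairW 2 M a.1 a.2 (η l)) (ψ₀ : zc σ h → ℂ)) := fun l => by
    refine irr_of_norm_one (starW_genChar hM L.maxf (hstab l) ?_ ψ₀)
      (by rw [hinner]; exact classInner_irr_self l.2) ?_
    · rw [show (fun v : a.1 => η l v) = (l : a.1 → ℂ) from funext (hval l)]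
      exact isGenChar_of_char (isCharacter_of_irr l.2)
    · rw [starW_one hM L.maxf (hstab l) hψ, hη1, ← irr_charDegree_cast ψ₀, ← Nat.cast_mul,
        Complex.natCast_re, Nat.cast_pos]
      exact Nat.mul_pos (irr_charDegree_pos l) (irr_charDegree_pos ψ₀)
  set T : IrrCharacter a.1 → IrrCharacter (zc σ h) := fun l => ⟨_, hirr l⟩ with hT
  have hmem : ∀ l, T l ∈ f := fun l =>
    mem_of_regular_prop hM L.hf hψ (r := (charDegree (l : a.1 → ℂ) : ℂ))
      (Nat.cast_ne_zero.2 (irr_charDegree_pos l).ne')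
      fun g hg => by
        show starFun 2 M (pairW 2 M a.1 a.2 (η l)) (ψ₀ : zc σ h → ℂ) g = _
        rw [starW_regular hM L.maxf (hstab l) hψ hg, hη1]
  have hinj : Function.Injective T := by
    intro l l' hll
    by_contra hne
    have h1 := hinner l l'
    have e : starFun 2 M (pairW 2 M a.1 a.2 (η l)) (ψ₀ : zc σ h → ℂ) =
        starFun 2 M (pairW 2 M a.1 a.2 (η l')) (ψ₀ : zc σ h → ℂ) :=
      congrArg Subtype.val hll
    rw [e, hinner, classInner_irr_self l'.2,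
      classInner_irr_ne l.2 l'.2 (fun h => hne (Subtype.ext h))] at h1
    exact one_ne_zero h1
  obtain ⟨χ₀, -, Ψ, -⟩ := nilpotent_param hM L.maxf hnil
  let T' : IrrCharacter a.1 → f := fun l => ⟨T l, hmem l⟩
  have hbij : Function.Bijective T' := (Fintype.bijective_iff_injective_and_card T').2
    ⟨fun l l' e => hinj (congrArg Subtype.val e), Fintype.card_congr Ψ⟩
  refine ⟨ψ₀, T, L, hψ, h0, hinj, fun ψ => ⟨fun hψ' => ?_, ?_⟩, fun l => rfl, hstab⟩
  · obtain ⟨l, hl⟩ := hbij.2 ⟨ψ, hψ'⟩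
    exact ⟨l, congrArg Subtype.val hl⟩
  · rintro ⟨l, rfl⟩
    exact hmem l

variable {ψ₀ : IrrCharacter (zc σ h)} {T : IrrCharacter a.1 → IrrCharacter (zc σ h)}

/-- The value of the common character at the pair of a rotation. -/
noncomputable def piv (M : Ideal AlgInt) (a : BrauerPairIdx (zc σ h))
    (ψ₀ : IrrCharacter (zc σ h)) (u c : zc σ h) : ℂ :=
  pairVal (bEl 2 M a.1 a.2 u) (ψ₀ : zc σ h → ℂ) (u * c)

/-- The function on the defect group attached to a character. -/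
noncomputable def lam (a : BrauerPairIdx (zc σ h))
    (T : IrrCharacter a.1 → IrrCharacter (zc σ h)) (χ : IrrCharacter G) (v : zc σ h) : ℂ :=
  ∑ l : IrrCharacter a.1, classInner (fun k : zc σ h => (χ : G → ℂ) k) (T l : zc σ h → ℂ) *
    sext a.1 (l : a.1 → ℂ) v

theorem Par.sum_f (P : Par M B σ h f a s ψ₀ T) {R : Type*} [AddCommMonoid R]
    (Φ : IrrCharacter (zc σ h) → R) : ∑ ψ ∈ bset f, Φ ψ = ∑ l, Φ (T l) := by
  classical
  symm
  refine Finset.sum_bij (fun l _ => T l) (fun l _ => mem_bset.2 ((P.cover _).2 ⟨l, rfl⟩))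
    (fun l _ l' _ e => P.inj e) (fun ψ hψ => ?_) fun l _ => rfl
  obtain ⟨l, hl⟩ := (P.cover ψ).1 (mem_bset.1 hψ)
  exact ⟨l, Finset.mem_univ _, hl⟩

theorem Par.pair_T (P : Par M B σ h f a s ψ₀ T) {u : zc σ h} (hu : u ∈ a.1) {c : zc σ h}
    (hc : c ∈ regC 2 u) (l : IrrCharacter a.1) :
    pairVal (bEl 2 M a.1 a.2 u) (T l : zc σ h → ℂ) (u * c) =
      sext a.1 (l : a.1 → ℂ) u * piv M a ψ₀ u c := by
  obtain ⟨k, hk⟩ := IsPGroup.iff_orderOf.1 P.maxf.1.1.1 (⟨u, hu⟩ : a.1)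
  rw [Subgroup.orderOf_mk] at hk
  rw [P.val, pairVal_starFun P.hM (pairW_conjInv (P.stab l)) (irr_isClassFun ψ₀) ⟨k, hk⟩
    (bEl_spec P.hM P.maxf hu).1 hc, pairW_bEl P.hM P.maxf (P.stab l) hu]
  rfl

theorem Par.pair_off (P : Par M B σ h f a s ψ₀ T) {u : zc σ h} (hu : u ∈ a.1) {c : zc σ h}
    (hc : c ∈ regC 2 u) {ψ : IrrCharacter (zc σ h)} (hψ : ψ ∉ f) :
    pairVal (bEl 2 M a.1 a.2 u) (ψ : zc σ h → ℂ) (u * c) = 0 := by
  obtain ⟨k, hk⟩ := IsPGroup.iff_orderOf.1 P.maxf.1.1.1 (⟨u, hu⟩ : a.1)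
  rw [Subgroup.orderOf_mk] at hk
  obtain ⟨h1, -, h3⟩ := bEl_spec P.hM P.maxf hu
  exact pairVal_off' P.hM hψ ⟨k, hk⟩ h1 h3 hc

theorem Par.pair_sum (P : Par M B σ h f a s ψ₀ T) {u : zc σ h} (hu : u ∈ a.1) {c : zc σ h}
    (hc : c ∈ regC 2 u) (r : IrrCharacter (zc σ h) → ℂ) :
    ∑ ψ : IrrCharacter (zc σ h), pairVal (bEl 2 M a.1 a.2 u) (ψ : zc σ h → ℂ) (u * c) * r ψ =
      (∑ l : IrrCharacter a.1, sext a.1 (l : a.1 → ℂ) u * r (T l)) * piv M a ψ₀ u c := by
  classical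
  rw [← Finset.sum_subset (Finset.subset_univ (bset f)) fun ψ _ hψ => by
    rw [P.pair_off hu hc fun h => hψ (mem_bset.2 h), zero_mul],
    P.sum_f, Finset.sum_mul]
  exact Finset.sum_congr rfl fun l _ => by rw [P.pair_T hu hc]; ring

/-- The values of a restricted character at the pair of a rotation. -/
theorem Par.pair_char (P : Par M B σ h f a s ψ₀ T) {u : zc σ h} (hu : u ∈ a.1) {c : zc σ h}
    (hc : c ∈ regC 2 u) (χ : IrrCharacter G) :
    pairVal (bEl 2 M a.1 a.2 u) (fun k : zc σ h => (χ : G → ℂ) k) (u * c) =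
      lam a T χ u * piv M a ψ₀ u c := by
  classical
  have e : (fun k : zc σ h => (χ : G → ℂ) k) = fun k => ∑ ψ : IrrCharacter (zc σ h),
      classInner (fun k : zc σ h => (χ : G → ℂ) k) (ψ : zc σ h → ℂ) *
        (ψ : zc σ h → ℂ) k := funext fun k => by
    have h1 := congrFun (eq_sum_irr (isClassFunction_restrict (H := zc σ h) χ)) k
    simp only [Finset.sum_apply, Pi.smul_apply, smul_eq_mul] at h1
    exact h1
  conv_lhs => rw [e]
  rw [pairVal_sum, Finset.sum_congr rfl fun ψ _ => mul_comm _ _, P.pair_sum hu hc, lam]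
  congr 1
  exact Finset.sum_congr rfl fun l _ => mul_comm _ _

theorem Par.exists_piv (P : Par M B σ h f a s ψ₀ T) {u : zc σ h} (hu : u ∈ a.1) :
    ∃ c ∈ regC 2 u, piv M a ψ₀ u c ≠ 0 := by
  haveI := Fintype.ofFinite a.1
  have h1 := fEl_eq_one P.hM P.maxf P.toLoc.nilpotent P.mem0 P.h0 ⟨u, hu⟩
  by_contra hc
  push Not at hc
  rw [fEl, fPair] at h1
  have h2 : pairT 2 (bEl 2 M a.1 a.2 u) u (ψ₀ : zc σ h → ℂ) (ψ₀ : zc σ h → ℂ) = 0 :=
    Finset.sum_eq_zero fun c hcm => by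
      show piv M a ψ₀ u c * conj (piv M a ψ₀ u c) = 0
      rw [hc c hcm, zero_mul]
  rw [h2, mul_zero] at h1
  exact zero_ne_one h1

theorem Par.lam_off (P : Par M B σ h f a s ψ₀ T) {u : zc σ h} (hu : u ∈ Subgroup.zpowers s)
    (h1 : u ≠ 1) {χ : IrrCharacter G} (hχ : χ ∉ B) : lam a T χ u = 0 := by
  obtain ⟨c, hc, hne⟩ := P.exists_piv (P.dg.zle hu)
  have h2 := P.pair_char (P.dg.zle hu) hc χ
  rw [P.toLoc.pair_off hu h1 hχ hc] at h2
  exact (mul_eq_zero.1 h2.symm).resolve_right hne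

theorem Par.sum_lam (P : Par M B σ h f a s ψ₀ T) {u : zc σ h} (hu : u ∈ Subgroup.zpowers s)
    (h1 : u ≠ 1) (r : IrrCharacter G → ℂ) :
    ∑ χ : IrrCharacter G, lam a T χ u * r χ = ∑ χ ∈ bset B, lam a T χ u * r χ :=
  (Finset.sum_subset (Finset.subset_univ _) fun χ _ hχ => by
    rw [P.lam_off hu h1 fun h => hχ (mem_bset.2 h), zero_mul]).symm

/-- The columns at two rotations. -/
theorem Par.orth (P : Par M B σ h f a s ψ₀ T) {u v : zc σ h} (hu : u ∈ Subgroup.zpowers s)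
    (hu1 : u ≠ 1) (hv : v ∈ Subgroup.zpowers s) (hv1 : v ≠ 1) :
    ∑ χ ∈ bset B, lam a T χ u * conj (lam a T χ v) =
      ∑ l : IrrCharacter a.1, sext a.1 (l : a.1 → ℂ) u * conj (sext a.1 (l : a.1 → ℂ) v) := by
  classical
  have hcu := P.toLoc.cent hu hu1
  have hfus := P.toLoc.fus hu hu1 hv
  obtain ⟨c, hc, hcne⟩ := P.exists_piv (P.dg.zle hu)
  obtain ⟨d, hd, hdne⟩ := P.exists_piv (P.dg.zle hv)
  have hk := kernel P.hM (P.dg.toCyc.exists_order hu) (P.dg.toCyc.exists_order hv) hcu hfus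
    (bEl_spec P.hM P.maxf (P.dg.zle hu)).1 (bEl_spec P.hM P.maxf (P.dg.zle hv)).1 hc hd
  rw [P.pair_sum (P.dg.zle hu) hc] at hk
  simp only [P.pair_char (P.dg.zle hu) hc, P.pair_char (P.dg.zle hv) hd,
    P.pair_T (P.dg.zle hv) hd, map_mul] at hk
  rw [← P.sum_lam hu hu1 fun χ => conj (lam a T χ v)]
  apply mul_right_cancel₀ (mul_ne_zero hcne ((map_ne_zero (starRingEnd ℂ)).2 hdne))
  rw [Finset.sum_mul, Finset.sum_mul]
  refine Eq.trans (Finset.sum_congr rfl fun χ _ => by ring) (hk.trans ?_)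
  rw [Finset.sum_mul]
  exact Finset.sum_congr rfl fun l _ => by ring

/-- The column at a rotation against an element outside its section. -/
theorem Par.orth_off (P : Par M B σ h f a s ψ₀ T) {u : zc σ h} (hu : u ∈ Subgroup.zpowers s)
    (hu1 : u ≠ 1) {g : G} (hg : ∀ y ∈ regC 2 u, ¬ IsConj ((u * y : zc σ h) : G) g) :
    ∑ χ ∈ bset B, lam a T χ u * conj ((χ : G → ℂ) g) = 0 := by
  obtain ⟨c, hc, hcne⟩ := P.exists_piv (P.dg.zle hu)
  have hk := kernel_zero P.hM hg (bEl_spec P.hM P.maxf (P.dg.zle hu)).1 hc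
  simp only [P.pair_char (P.dg.zle hu) hc] at hk
  rw [← P.sum_lam hu hu1 fun χ => conj ((χ : G → ℂ) g)]
  apply mul_right_cancel₀ hcne
  rw [Finset.sum_mul, zero_mul]
  exact Eq.trans (Finset.sum_congr rfl fun χ _ => by ring) hk

/-- Outside the regular elements the rotations are singular. -/
theorem Par.orth_regular (P : Par M B σ h f a s ψ₀ T) {u : zc σ h} (hu : u ∈ Subgroup.zpowers s)
    (hu1 : u ≠ 1) {g : G} (hg : ¬ 2 ∣ orderOf g) :
    ∑ χ ∈ bset B, lam a T χ u * conj ((χ : G → ℂ) g) = 0 := by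
  refine P.orth_off hu hu1 fun y hy hc => P.toLoc.coe_ne hu1 ?_
  obtain ⟨x, hx⟩ := isConj_iff.1 hc
  have h2 := pPart_conj Nat.prime_two (u := (u : G)) (v := (1 : G)) (y := (y : G)) (y' := g)
    (mem_regC.2 ⟨(mem_regC.1 hy).1.map (zc σ h).subtype,
      by rw [Subgroup.orderOf_coe]; exact (mem_regC.1 hy).2⟩)
    (mem_regC.2 ⟨Commute.one_left g, hg⟩) (P.cyc.exists_order (P.toLoc.coe_mem hu))
    ⟨0, by simp⟩ (x := x) (by rw [one_mul, ← hx, Subgroup.coe_mul])
  exact conj_eq_one_iff.1 h2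

/-- The orthogonality in the defect group. -/
theorem Par.dual (P : Par M B σ h f a s ψ₀ T) {l m : ℕ} (hl0 : 0 < l) (hl : l < 2 * h)
    (hm : m < 2 * h) :
    ∑ χ : IrrCharacter a.1, sext a.1 (χ : a.1 → ℂ) (s ^ l) *
        conj (sext a.1 (χ : a.1 → ℂ) (s ^ m)) =
      ((2 * h : ℕ) : ℂ) * ((if m = l then 1 else 0) + if m = 2 * h - l then 1 else 0) := by
  classical
  have hd := P.dg
  have hlA : s ^ l ∈ a.1 := hd.zle (Subgroup.npow_mem_zpowers s l)
  have hmA : s ^ m ∈ a.1 := hd.zle (Subgroup.npow_mem_zpowers s m)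
  have e : ∀ (χ : IrrCharacter a.1) (x : zc σ h) (hx : x ∈ a.1),
      sext a.1 (χ : a.1 → ℂ) x = (χ : a.1 → ℂ) ⟨x, hx⟩ := fun χ x hx => sext_coe a.1 _ ⟨x, hx⟩
  simp only [e _ _ hlA, e _ _ hmA]
  haveI := Fintype.ofFinite a.1
  rw [sum_irr_mul_conj]
  have hs : ∀ x : a.1, (x : zc σ h) * s ^ l * (x : zc σ h)⁻¹ =
      if (x : zc σ h) ∈ Subgroup.zpowers s then s ^ l else s ^ (2 * h - l) := fun x => by
    rw [hd.conj_eq x.2 (Subgroup.npow_mem_zpowers s l), hd.toCyc.pow_sub' hl.le]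
  have hiff : IsConj (⟨s ^ l, hlA⟩ : a.1) ⟨s ^ m, hmA⟩ ↔ m = l ∨ m = 2 * h - l := by
    rw [isConj_iff]
    constructor
    · rintro ⟨x, hx⟩
      have hx' : (x : zc σ h) * s ^ l * (x : zc σ h)⁻¹ = s ^ m := congrArg Subtype.val hx
      rw [hs x] at hx'
      split_ifs at hx' with hn
      · exact Or.inl (hd.toCyc.pow_inj hm hl hx'.symm)
      · exact Or.inr (hd.toCyc.pow_inj hm (by omega) hx'.symm)
    · rintro (rfl | rfl)
      · exact ⟨1, by simp⟩
      · obtain ⟨x, hx, hn⟩ := hd.exists_out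
        exact ⟨⟨x, hx⟩, Subtype.ext ((hs ⟨x, hx⟩).trans (if_neg hn))⟩
  have hcard : (Nat.card (Subgroup.centralizer ({(⟨s ^ l, hlA⟩ : a.1)} : Set a.1)) : ℂ) =
      ((2 * h : ℕ) : ℂ) * if l = h then 2 else 1 := by
    split_ifs with hlh
    · have : Subgroup.centralizer ({(⟨s ^ l, hlA⟩ : a.1)} : Set a.1) = ⊤ := eq_top_iff.2 fun x _ =>
        Subgroup.mem_centralizer_singleton_iff.2 (Subtype.ext (by
          simp only [Subgroup.coe_mul, hlh]; exact (hd.z_central x.2).eq))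
      rw [this, Subgroup.card_top, hd.card]
      push_cast; ring
    · have : Subgroup.centralizer ({(⟨s ^ l, hlA⟩ : a.1)} : Set a.1) =
          (Subgroup.zpowers s).subgroupOf a.1 := by
        ext x
        rw [Subgroup.mem_centralizer_singleton_iff, Subgroup.mem_subgroupOf]
        constructor
        · intro hx
          have hx' : (x : zc σ h) * s ^ l * (x : zc σ h)⁻¹ = s ^ l := by
            rw [show (x : zc σ h) * s ^ l = s ^ l * x from congrArg Subtype.val hx,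
              mul_inv_cancel_right]
          by_contra hn
          rw [hs x, if_neg hn] at hx'
          exact hlh (by have := hd.toCyc.pow_inj (by omega) hl hx'; omega)
        · intro hx
          have := hs x
          rw [if_pos hx] at this
          exact Subtype.ext (mul_inv_eq_iff_eq_mul.1 this)
      rw [this, Nat.card_congr (Subgroup.subgroupOfEquivOfLe hd.zle).toEquiv, Nat.card_zpowers,
        hd.ord, mul_one]
  rw [hcard]
  by_cases h1 : m = l
  · rw [if_pos (hiff.2 (Or.inl h1)), if_pos h1]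
    by_cases h2 : l = h
    · rw [if_pos h2, if_pos (by omega)]; ring
    · rw [if_neg h2, if_neg (by omega)]; ring
  · by_cases h2 : m = 2 * h - l
    · rw [if_pos (hiff.2 (Or.inr h2)), if_neg h1, if_pos h2, if_neg (by omega)]; ring
    · rw [if_neg (fun h3 => by rcases hiff.1 h3 with e | e <;> contradiction), if_neg h1, if_neg h2,
        add_zero, mul_zero]

theorem Par.orth_pow (P : Par M B σ h f a s ψ₀ T) {l m : ℕ} (hl0 : 0 < l) (hl : l < 2 * h)
    (hm0 : 0 < m) (hm : m < 2 * h) :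
    ∑ χ ∈ bset B, lam a T χ (s ^ l) * conj (lam a T χ (s ^ m)) =
      ((2 * h : ℕ) : ℂ) * ((if m = l then 1 else 0) + if m = 2 * h - l then 1 else 0) := by
  rw [P.orth (Subgroup.npow_mem_zpowers s l) (P.dg.toCyc.pow_ne_one hl0 hl)
    (Subgroup.npow_mem_zpowers s m) (P.dg.toCyc.pow_ne_one hm0 hm), P.dual hl0 hl hm]

theorem Par.lam_real (P : Par M B σ h f a s ψ₀ T) (χ : IrrCharacter G) {u : zc σ h}
    (hu : u ∈ Subgroup.zpowers s) : conj (lam a T χ u) = lam a T χ u := by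
  classical
  haveI := Fintype.ofFinite a.1
  have huA := P.dg.zle hu
  obtain ⟨x, hx, hn⟩ := P.dg.exists_out
  rw [lam, map_sum]
  refine Finset.sum_congr rfl fun l _ => ?_
  obtain ⟨n, hn'⟩ := classInner_char_nat (isCharacter_restrict_irr (zc σ h) χ)
    (isCharacter_of_irr (T l).2)
  rw [map_mul, hn', map_natCast, show sext a.1 (l : a.1 → ℂ) u = (l : a.1 → ℂ) ⟨u, huA⟩ from
    sext_coe a.1 _ ⟨u, huA⟩, irr_conjInv,
    show (⟨u, huA⟩ : a.1)⁻¹ = ⟨x, hx⟩ * ⟨u, huA⟩ * (⟨x, hx⟩ : a.1)⁻¹ from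
      Subtype.ext (P.dg.invert hx hn hu).symm, irr_isClassFun l]

/-- The contributions at the involution. -/
theorem Par.secPair_z (P : Par M B σ h f a s ψ₀ T) (χ ψ : IrrCharacter G) :
    secPair 2 (σ ^ h) f (χ : G → ℂ) (ψ : G → ℂ) = lam a T χ (s ^ h) * lam a T ψ (s ^ h) := by
  classical
  haveI : Fact (Nat.Prime 2) := ⟨Nat.prime_two⟩
  haveI := Fintype.ofFinite a.1
  have hM := P.hM
  set z : zc σ h := s ^ h with hz
  have hzc := P.toLoc.z_center
  have hzR : z ∈ Subgroup.zpowers s := Subgroup.npow_mem_zpowers s h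
  have hz1 : z ≠ 1 := P.dg.toCyc.z_ne.1
  have hzA := P.dg.zle hzR
  set η : IrrCharacter a.1 → zc σ h → ℂ := fun l => sext a.1 (l : a.1 → ℂ) with hη
  have hTz : ∀ l, (T l : zc σ h → ℂ) z = η l z * (ψ₀ : zc σ h → ℂ) z := by
    intro l
    have h1 := starFun_section (W := pairW 2 M a.1 a.2 (η l)) (r := η l z) (x := z) (c := 1)
      hM P.toLoc.hf P.mem0 (P.dg.toCyc.exists_order hzR)
      (mem_regC.2 ⟨Commute.one_right z, by simp⟩) (fun b hb hp => by
        obtain ⟨t, ht⟩ := (carries_iff_pairOf hM P.maxf).2 hp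
        rw [pairW_eq (P.stab l) (mem_pairsAt.1 hb).1 ht]
        congr 1
        exact (show t * z = z * t from Subgroup.mem_center_iff.1 hzc t) ▸
          mul_inv_cancel_right z t)
    rw [mul_one] at h1
    rw [P.val]
    exact h1
  set ω₀ : ℂ := (ψ₀ : zc σ h → ℂ) z / (ψ₀ : zc σ h → ℂ) 1 with hω₀
  have hblock : ∀ (χ : IrrCharacter G) (c : zc σ h), ¬ 2 ∣ orderOf c →
      blockPart f (sec (σ ^ h) (zc σ h) (χ : G → ℂ)) c =
        lam a T χ z * (ω₀ * (ψ₀ : zc σ h → ℂ) c) := by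
    intro χ c hc
    rw [blockPart_apply, P.sum_f, lam, Finset.sum_mul]
    refine Finset.sum_congr rfl fun l _ => ?_
    have h1 := classInner_sec_central z hzc χ (T l)
    rw [P.toLoc.z_eq] at h1
    have hl1 : η l 1 ≠ 0 := by
      rw [show η l 1 = η l ((1 : a.1) : zc σ h) from rfl, show η l ((1 : a.1) : zc σ h) =
        (l : a.1 → ℂ) 1 from sext_coe a.1 _ 1]
      exact irr_one_ne_zero l
    have hc' : (T l : zc σ h → ℂ) c = η l 1 * (ψ₀ : zc σ h → ℂ) c := by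
      rw [P.val]; exact starW_regular hM P.maxf (P.stab l) P.mem0 hc
    have h1' : (T l : zc σ h → ℂ) 1 = η l 1 * (ψ₀ : zc σ h → ℂ) 1 := by
      rw [P.val]; exact starW_one hM P.maxf (P.stab l) P.mem0
    rw [h1, hTz, hc', h1', hω₀]
    have := irr_one_ne_zero ψ₀
    show _ = _ * η l z * _
    field_simp
  set S : ℂ := (2 : ℂ) ^ blockDefect 2 f * (Nat.card (zc σ h) : ℂ)⁻¹ *
    ∑ c ∈ Finset.univ.filter (fun c : zc σ h => ¬ 2 ∣ orderOf c),
      (ω₀ * (ψ₀ : zc σ h → ℂ) c) * conj (ω₀ * (ψ₀ : zc σ h → ℂ) c) with hS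
  have hsec : ∀ χ ψ : IrrCharacter G, secPair 2 (σ ^ h) f (χ : G → ℂ) (ψ : G → ℂ) =
      lam a T χ z * lam a T ψ z * S := by
    intro χ ψ
    rw [secPair, hS, Finset.mul_sum, Finset.mul_sum, Finset.mul_sum]
    refine Finset.sum_congr rfl fun c hc => ?_
    rw [hblock χ c (Finset.mem_filter.1 hc).2, hblock ψ c (Finset.mem_filter.1 hc).2]
    rw [map_mul, P.lam_real ψ hzR]
    push_cast
    ring
  have hsum := sum_secPair_diag hM (isCentr_zpowers (σ ^ h))
    (P.cyc.exists_order (Subgroup.npow_mem_zpowers σ h)) P.ind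
  rw [(nilpotent_rank_one hM P.toLoc.nilpotent).1] at hsum
  simp only [hsec] at hsum
  rw [← Finset.sum_mul] at hsum
  have horth := P.orth_pow (l := h) (m := h) (by have := P.cyc.two_le; omega)
    (by have := P.cyc.two_le; omega) (by have := P.cyc.two_le; omega)
    (by have := P.cyc.two_le; omega)
  rw [if_pos rfl, if_pos (by omega)] at horth
  simp only [P.lam_real _ hzR, ← hz] at horth
  rw [horth] at hsum
  have hcard : (2 : ℕ) ^ blockDefect 2 f = 2 * (2 * h) := by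
    rw [← card_defectGroup hM P.toLoc.hf (maximal_isDefectGroup hM P.maxf), P.dg.card]
  have hS1 : S = 1 := by
    have e : ((2 : ℕ) : ℂ) ^ blockDefect 2 f = ((2 * (2 * h) : ℕ) : ℂ) := by
      rw [← Nat.cast_pow, hcard]
    rw [e] at hsum
    have hne : ((2 * (2 * h) : ℕ) : ℂ) ≠ 0 :=
      Nat.cast_ne_zero.2 (by have := P.cyc.two_le; omega)
    apply mul_left_cancel₀ hne
    push_cast at hsum ⊢
    linear_combination hsum
  rw [hsec, hS1, mul_one]

end CfsgLib.Blocks.DihBlock
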