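import Cfsg.Agent.Lib.Blocks.DihBlock.Columns
import Cfsg.Agent.Lib.Blocks.DihBlock.Cubic
import Cfsg.Agent.Lib.Blocks.TwoChars

/-!
# The invariants of a 2-block with dihedral defect group
-/

namespace CfsgLib.Blocks.DihBlock

open Cfsg CfsgLib.CharTheory CfsgLib.Blocks.Dihedral
open scoped ComplexConjugate

set_option linter.unusedVariables false
set_option linter.unusedSimpArgs false
set_option linter.style.haveILetI false
set_option linter.unusedSectionVars false

universe u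

variable {G : Type u} [Group G] [Fintype G] {M : Ideal AlgInt} {B : Set (IrrCharacter G)}
  {σ : G} {h : ℕ} [Fintype (zc σ h)] {f : Set (IrrCharacter (zc σ h))}
  {a : BrauerPairIdx (zc σ h)} {s : zc σ h} {ψ₀ : IrrCharacter (zc σ h)}
  {T : IrrCharacter a.1 → IrrCharacter (zc σ h)} {ζ : ℂ}
  {X : IrrCharacter G → ℤ} {Y : Fin (h - 1) → IrrCharacter G → ℤ}

open Classical in
/-- The members with an odd leading coefficient. -/
noncomputable def oddSet (B : Set (IrrCharacter G)) (X : IrrCharacter G → ℤ) :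
    Finset (IrrCharacter G) :=
  (bset B).filter fun χ => Odd (X χ)

theorem Par.gram_shape (P : Par M B σ h f a s ψ₀ T) (hζ : IsPrimitiveRoot ζ (2 * h))
    (C : Cols B a T s ζ X Y) : Gram (bset B) (oddSet B X) X Y where
  sub := Finset.filter_subset _ _
  par := fun χ hχ => by simp [oddSet, hχ]
  ne := by
    classical
    obtain ⟨θ, hθ, h0⟩ := exists_height_zero P.hM P.toLoc.hB
    exact ⟨θ, Finset.mem_filter.2 ⟨mem_bset.2 hθ,
      (P.height_z hζ C hθ).1.2 ((height_zero_iff hθ).2 h0)⟩⟩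
  XX := C.XX
  XY := C.XY
  YY := C.YY

/-- The pairs cannot form a star or a triangle. -/
theorem Par.exceptional_false (P : Par M B σ h f a s ψ₀ T) (hh : h = 4)
    (hζ : IsPrimitiveRoot ζ (2 * h)) (C : Cols B a T s ζ X Y)
    {Q : Fin (h - 1) → Finset (IrrCharacter G)} {t : Fin (h - 1) → IrrCharacter G}
    {g : Fin (h - 1) → ℤ} (S : Shape (bset B) (oddSet B X) X Y Q t g)
    (hd : ∀ j k, j ≠ k → Q j ≠ Q k ∧ (Q j ∩ Q k).card = 1 ∧ t j = t k ∧ g j = g k) : False := by
  classical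
  subst hh
  have hM := P.hM
  haveI := res_charP hM
  haveI := res_isDomain hM
  obtain ⟨x, b, hbinj, hbx, hE, hQ⟩ :=
    three_pairs S.card Q S.Psub S.Pcard fun j k e => (hd j k e).2.1
  set E := oddSet B X with hEdef
  -- the cosines
  set η : Fin 3 → ℂ := fun j => (ζ ^ ((j : ℕ) + 1)) ^ 1 + ((ζ ^ ((j : ℕ) + 1)) ^ 1)⁻¹ with hη
  have hhalf : ζ ^ 4 = -1 := root_half hζ (by norm_num)
  have hinv : ∀ i j : ℕ, i + j = 4 → (ζ ^ i)⁻¹ = -ζ ^ j := fun i j e => by
    refine inv_eq_of_mul_eq_one_right ?_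
    rw [mul_neg, ← pow_add, e, hhalf, neg_neg]
  have hη1 : η 1 = 0 := by
    simp only [hη, pow_one, Fin.val_one]
    rw [hinv 2 2 rfl]; ring
  have hη2 : η 2 = -η 0 := by
    simp only [hη, pow_one, show ((2 : Fin 3) : ℕ) = 2 from rfl, show ((0 : Fin 3) : ℕ) = 0 from rfl,
      zero_add]
    rw [hinv 3 1 rfl, show ζ⁻¹ = -ζ ^ 3 by
      have := hinv 1 3 rfl
      rwa [pow_one] at this]
    ring
  have hη0 : η 0 ^ 2 = 2 := by
    simp only [hη, pow_one, show ((0 : Fin 3) : ℕ) = 0 from rfl, zero_add]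
    rw [show ζ⁻¹ = -ζ ^ 3 by
      have := hinv 1 3 rfl
      rwa [pow_one] at this]
    linear_combination (ζ ^ 2 - 2) * hhalf
  have hηs : ∑ j : Fin 3, η j = 0 := by rw [Fin.sum_univ_three, hη1, hη2]; ring
  have hlam : ∀ χ, lam a T χ s = (X χ : ℂ) + ∑ j : Fin 3, (Y j χ : ℂ) * η j := fun χ => by
    have := C.val χ 1 one_pos (by norm_num)
    rw [pow_one] at this
    exact this
  have hout : ∀ χ ∈ bset B, χ ∉ E → lam a T χ s = 0 := by
    intro χ hχ hχE
    rw [hlam, S.x0 χ hχ hχE, Int.cast_zero, zero_add]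
    by_cases hc : χ = t 0
    · rw [Finset.sum_congr rfl fun j _ => show (Y j χ : ℂ) * η j = (g 0 : ℂ) * η j by
        by_cases hj : j = 0
        · subst hj; rw [hc, S.ys]
        · rw [hc, ← (hd j 0 hj).2.2.1, S.ys, (hd j 0 hj).2.2.2], ← Finset.mul_sum, hηs, mul_zero]
    · refine Finset.sum_eq_zero fun j _ => ?_
      rw [S.y0 j χ hχ (fun e => hχE (S.Psub j e)) (fun e => ?_), Int.cast_zero, zero_mul]
      by_cases hj : j = 0
      · subst hj; exact hc e
      · exact hc (e.trans (hd j 0 hj).2.2.1)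
  have hin : ∀ χ ∈ E, lam a T χ s =
      (X χ : ℂ) * (1 + ∑ j : Fin 3, if χ ∈ Q j then η j else 0) := by
    intro χ hχ
    rw [hlam, mul_add, mul_one, Finset.mul_sum]
    congr 1
    refine Finset.sum_congr rfl fun j _ => ?_
    split_ifs with hm
    · rw [S.yP j χ hm]
    · rw [S.y0 j χ (S.sub hχ) hm (fun e => S.sE j (e ▸ hχ)), Int.cast_zero, zero_mul, mul_zero]
  -- the signed degrees
  set A : IrrCharacter G → ℂ := fun χ => (X χ : ℂ) * (χ : G → ℂ) 1 with hA
  have hAsum : ∑ χ ∈ E, A χ = 0 := by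
    rw [← C.Xd]
    refine Finset.sum_subset S.sub fun χ hχ hχE => ?_
    simp only [hA]
    rw [S.x0 χ hχ hχE, Int.cast_zero, zero_mul]
  have hpairs : ∀ j : Fin 3, ∑ χ ∈ Q j, A χ = -((g 0 : ℂ) * (t 0 : G → ℂ) 1) := by
    intro j
    have h1 := C.Yd j
    have hsP : t j ∉ Q j := fun e => S.sE j (S.Psub j e)
    rw [← Finset.sum_subset (s₁ := insert (t j) (Q j))
      (Finset.insert_subset (S.sS j) ((S.Psub j).trans S.sub)) fun χ hχ hn => by
        rw [Finset.mem_insert, not_or] at hn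
        rw [S.y0 j χ hχ hn.2 hn.1, Int.cast_zero, zero_mul],
      Finset.sum_insert hsP, S.ys, Finset.sum_congr rfl fun χ hχ => by rw [S.yP j χ hχ]] at h1
    by_cases hj : j = 0
    · subst hj; linear_combination h1
    · rw [(hd j 0 hj).2.2.1, (hd j 0 hj).2.2.2] at h1; linear_combination h1
  have hxim : x ∉ Finset.univ.image b := by simp [hbx]
  have hAsplit : A x + ∑ j, A (b j) = 0 := by
    rw [← hAsum, hE, Finset.sum_insert hxim, Finset.sum_image hbinj.injOn]
  obtain ⟨ε, hε, hAb, hLx, hLb⟩ : ∃ ε : ℂ, (ε = 1 ∨ ε = -1) ∧ (∀ j, A (b j) = A (b 0)) ∧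
      (1 + ∑ j : Fin 3, if x ∈ Q j then η j else 0) = 1 ∧
      ∀ i, (1 + ∑ j : Fin 3, if b i ∈ Q j then η j else 0) = 1 + ε * η i := by
    rcases hQ with hQ | hQ
    · refine ⟨1, Or.inl rfl, fun j => ?_, ?_, fun i => ?_⟩
      · have h1 := hpairs j
        have h2 := hpairs 0
        rw [hQ, Finset.sum_pair (hbx _).symm] at h1 h2
        linear_combination h1 - h2
      · rw [Finset.sum_congr rfl fun j _ => if_pos (by simp [hQ]), hηs, add_zero]
      · rw [one_mul]
        congr 1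
        rw [Finset.sum_eq_single i (fun j _ hj => if_neg (by
          simp [hQ, hbx, hbinj.eq_iff, Ne.symm hj])) (by simp), if_pos (by simp [hQ])]
    · have hmem : ∀ i j, b i ∈ Q j ↔ i ≠ j := fun i j => by simp [hQ, hbinj.eq_iff]
      refine ⟨-1, Or.inr rfl, fun j => ?_, ?_, fun i => ?_⟩
      · have e : ∀ j, ∑ χ ∈ Q j, A χ + A (b j) = ∑ k, A (b k) := fun j => by
          rw [hQ, Finset.sum_erase_add _ _
            (Finset.mem_image_of_mem b (Finset.mem_univ j)), Finset.sum_image hbinj.injOn]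
        linear_combination e j - e 0 - hpairs j + hpairs 0
      · rw [Finset.sum_eq_zero fun j _ => if_neg (by simp [hQ, hbx]), add_zero]
      · congr 1
        simp only [hmem]
        rw [← Finset.sum_filter, Finset.filter_ne, Finset.sum_erase_eq_sub (Finset.mem_univ i),
          hηs]
        ring
  set v : ℂ := A (b 0) with hv
  have hAx : A x = -3 * v := by
    rw [Finset.sum_congr rfl fun j _ => hAb j, Finset.sum_const, Finset.card_univ,
      Fintype.card_fin, nsmul_eq_mul] at hAsplit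
    linear_combination hAsplit
  have hbE : ∀ j, b j ∈ E := fun j => hE ▸ Finset.mem_insert_of_mem
    (Finset.mem_image_of_mem b (Finset.mem_univ j))
  have hxE : x ∈ E := hE ▸ Finset.mem_insert_self _ _
  have hXsq : ∀ χ ∈ E, (X χ : ℂ) * (X χ : ℂ) = 1 := fun χ hχ => by
    exact_mod_cast S.x1 χ hχ
  have hterm : ∀ χ ∈ E, lam a T χ s ^ 3 / (χ : G → ℂ) 1 =
      (1 + ∑ j : Fin 3, if χ ∈ Q j then η j else 0) ^ 3 / A χ := by
    intro χ hχ
    have hX0 : (X χ : ℂ) ≠ 0 := fun e => by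
      have := hXsq χ hχ; rw [e, zero_mul] at this; exact zero_ne_one this
    have := irr_one_ne_zero χ
    rw [hin χ hχ, hA]
    field_simp
    linear_combination ((X χ : ℂ) * (X χ : ℂ) + 1) *
      (1 + ∑ j : Fin 3, if χ ∈ Q j then η j else 0) ^ 3 * hXsq χ hχ
  have hsum : ∑ χ ∈ bset B, lam a T χ s ^ 3 / (χ : G → ℂ) 1 = 44 / (3 * v) := by
    rw [← Finset.sum_subset S.sub (fun χ hχ hχE => by rw [hout χ hχ hχE]; simp),
      Finset.sum_congr rfl hterm, hE, Finset.sum_insert hxim, Finset.sum_image hbinj.injOn,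
      hLx, hAx, Finset.sum_congr rfl fun j _ => by rw [hLb j, hAb j], ← Finset.sum_div,
      Fin.sum_univ_three, hη1, hη2]
    have hcube : (1 + ε * η 0) ^ 3 + (1 + ε * 0) ^ 3 + (1 + ε * -η 0) ^ 3 = 15 := by
      rcases hε with rfl | rfl <;> linear_combination 6 * hη0
    rw [hcube]
    have hv0 : v ≠ 0 := mul_ne_zero (fun e => by
      have := hXsq _ (hbE 0); rw [e, zero_mul] at this; exact zero_ne_one this) (irr_one_ne_zero _)
    field_simp
    ring
  -- the two-parts
  obtain ⟨w, hwm, hw0, hMw, hres⟩ := P.moment_res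
  set χ := b 0 with hχdef
  have hχB : χ ∈ B := mem_bset.1 (S.sub (hbE 0))
  have hdv : dv 2 (χ : G → ℂ) = minDv 2 B := (height_zero_iff hχB).1
    ((P.height_z hζ C hχB).1.1 ((S.par χ (S.sub (hbE 0))).1 (hbE 0)))
  have hdef : blockDefect 2 B = 4 := by
    rw [← P.hdef]
    apply Nat.pow_right_injective (le_refl 2)
    show 2 ^ blockDefect 2 f = 2 ^ 4
    rw [← card_defectGroup hM P.toLoc.hf (maximal_isDefectGroup hM P.maxf), P.dg.card]
  have hν : (Nat.card G).factorization 2 = 4 + dv 2 (χ : G → ℂ) := by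
    rw [blockDefect_eq] at hdef
    have := minDv_le_card hM P.toLoc.hB
    omega
  set m := Nat.card G / 2 ^ (Nat.card G).factorization 2 with hm
  set r := charDegree (χ : G → ℂ) / 2 ^ dv 2 (χ : G → ℂ) with hr
  have hGeq : (Nat.card G : ℂ) = 16 * (2 : ℂ) ^ dv 2 (χ : G → ℂ) * (m : ℂ) := by
    rw [show (16 : ℂ) = 2 ^ 4 by norm_num, ← pow_add, ← hν]
    exact_mod_cast (Nat.ordProj_mul_ordCompl_eq_self (Nat.card G) 2).symm
  have hχ1 : (χ : G → ℂ) 1 = (2 : ℂ) ^ dv 2 (χ : G → ℂ) * (r : ℂ) := by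
    rw [← irr_charDegree_cast χ]
    exact_mod_cast (Nat.ordProj_mul_ordCompl_eq_self (charDegree (χ : G → ℂ)) 2).symm
  have hru : ¬ 2 ∣ r := Nat.not_dvd_ordCompl Nat.prime_two (irr_charDegree_pos χ).ne'
  have hrc : (r : ℂ) ≠ 0 := Nat.cast_ne_zero.2 fun e => hru (e ▸ dvd_zero 2)
  have hmu : ¬ 2 ∣ m := Nat.not_dvd_ordCompl Nat.prime_two Nat.card_pos.ne'
  have hkey : moment 4 B a T s * ((3 * r : ℕ) : ℂ) = ((11 * (m : ℤ) * X χ : ℤ) : ℂ) := by
    have hX0 : (X χ : ℂ) ≠ 0 := fun e => by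
      have := hXsq _ (hbE 0); rw [e, zero_mul] at this; exact zero_ne_one this
    rw [moment, hsum, hGeq, hv]
    simp only [hA, ← hχdef]
    rw [hχ1]
    push_cast
    have h2 : (2 : ℂ) ^ dv 2 (χ : G → ℂ) ≠ 0 := pow_ne_zero _ two_ne_zero
    field_simp
    linear_combination (-(704 : ℂ) * (m : ℂ)) * hXsq _ (hbE 0)
  have hodd : ¬ (2 : ℤ) ∣ 11 * (m : ℤ) * X χ := by
    intro h2
    rcases Int.prime_two.dvd_mul.1 h2 with h3 | h3
    · rcases Int.prime_two.dvd_mul.1 h3 with h4 | h4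
      · omega
      · exact hmu (by exact_mod_cast h4)
    · exact Int.not_even_iff_odd.2 ((S.par χ (S.sub (hbE 0))).1 (hbE 0)) (even_iff_two_dvd.2 h3)
  have h1 : res hM (moment 4 B a T s * w * ((3 * r : ℕ) : ℂ)) = 0 := by
    rw [res_mul hM hMw (memRing_natCast hM _), hres, zero_mul]
  rw [mul_right_comm, hkey, res_mul hM (memRing_intCast hM _) hwm, res_intCast' hM] at h1
  exact hodd ((CharP.intCast_eq_zero_iff (AlgInt ⧸ M) 2 _).1 ((mul_eq_zero.1 h1).resolve_right hw0))

/-- The regular rank is at most the number of characters minus the number of columns. -/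
theorem Par.rank_le (P : Par M B σ h f a s ψ₀ T) : blockRank 2 B + h ≤ (bset B).card := by
  classical
  have h2 := P.cyc.two_le
  set v : bset B → G → ℂ := fun χ => pRegularPart 2 (χ.1 : G → ℂ) with hv
  set L := Fintype.linearCombination ℂ v with hL
  have hrange : blockRank 2 B = Module.finrank ℂ (LinearMap.range L) := by
    rw [hL, Fintype.range_linearCombination]
    have : Set.range v = (fun χ : IrrCharacter G => pRegularPart 2 (χ : G → ℂ)) '' B := by
      ext F
      constructor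
      · rintro ⟨χ, rfl⟩; exact ⟨χ.1, mem_bset.1 χ.2, rfl⟩
      · rintro ⟨χ, hχ, rfl⟩; exact ⟨⟨χ, mem_bset.2 hχ⟩, rfl⟩
    rw [this]
    rfl
  set c : Fin h → bset B → ℂ := fun i χ => lam a T χ.1 (s ^ ((i : ℕ) + 1)) with hc
  have hker : ∀ i, c i ∈ LinearMap.ker L := by
    intro i
    rw [LinearMap.mem_ker]
    funext g
    rw [hL, Fintype.linearCombination_apply]
    simp only [Finset.sum_apply, Pi.smul_apply, smul_eq_mul, hc, hv, pRegularPart_apply,
      Pi.zero_apply]
    by_cases hg : 2 ∣ orderOf g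
    · simp [hg]
    · simp only [if_neg hg]
      rw [Finset.sum_coe_sort (bset B) (fun χ : IrrCharacter G =>
        lam a T χ (s ^ ((i : ℕ) + 1)) * (χ : G → ℂ) g),
        Finset.sum_congr rfl fun χ _ => by rw [show (χ : G → ℂ) g = conj ((χ : G → ℂ) g⁻¹) by
          rw [irr_conjInv, inv_inv]]]
      exact P.orth_regular (Subgroup.npow_mem_zpowers s _)
        (P.dg.toCyc.pow_ne_one (by omega) (by omega)) (by rwa [orderOf_inv])
  have hind : LinearIndependent ℂ c := by
    rw [Fintype.linearIndependent_iff]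
    intro g hg j
    have h1 : ∑ χ : bset B, (∑ i, g i * c i χ) * conj (c j χ) = 0 :=
      Finset.sum_eq_zero fun χ _ => by
        have := congrFun hg χ
        simp only [Finset.sum_apply, Pi.smul_apply, smul_eq_mul, Pi.zero_apply] at this
        rw [this, zero_mul]
    simp only [Finset.sum_mul, mul_assoc] at h1
    rw [Finset.sum_comm, Finset.sum_congr rfl fun i _ => by
      rw [← Finset.mul_sum, Finset.sum_coe_sort (bset B) (fun χ : IrrCharacter G =>
        lam a T χ (s ^ ((i : ℕ) + 1)) * conj (lam a T χ (s ^ ((j : ℕ) + 1)))),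
        P.orth_pow (by omega) (by omega) (by omega) (by omega)]] at h1
    rw [Finset.sum_eq_single j (fun i _ hij => by
      rw [if_neg (fun e => hij (Fin.ext (by omega))), if_neg (by
        intro e
        exact hij (Fin.ext (by omega)))]
      ring) (by simp)] at h1
    refine (mul_eq_zero.1 h1).resolve_right (mul_ne_zero (Nat.cast_ne_zero.2 (by omega)) ?_)
    rw [if_pos rfl]
    split_ifs <;> norm_num
  have hle : h ≤ Module.finrank ℂ (LinearMap.ker L) := by
    have h3 := finrank_span_eq_card hind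
    rw [Fintype.card_fin] at h3
    exact h3.ge.trans (Submodule.finrank_mono (Submodule.span_le.2 (by
      rintro _ ⟨i, rfl⟩; exact hker i)))
  have h4 := LinearMap.finrank_range_add_finrank_ker L
  rw [Module.finrank_fintype_fun_eq_card, Fintype.card_coe] at h4
  omega

/-- The invariants. -/
theorem Par.invariants (P : Par M B σ h f a s ψ₀ T) :
    (bset B).card = h + 3 ∧ blockRank 2 B ≤ 3 ∧
      Nat.card {χ : IrrCharacter G // χ ∈ B ∧ blockHeight 2 B (χ : G → ℂ) = 0} = 4 ∧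
      ∀ χ ∈ B, blockHeight 2 B (χ : G → ℂ) ≤ 1 := by
  classical
  have h2 := P.cyc.two_le
  have hζ := Complex.isPrimitiveRoot_exp (2 * h) (by omega)
  obtain ⟨X, Y, C⟩ := P.exists_cols hζ
  obtain ⟨Q, t, g, S⟩ := (P.gram_shape hζ C).exists_shape
  rcases S.inj_or with hinj | ⟨hd, hlo, hhi⟩
  swap
  · exfalso
    rw [Fintype.card_fin] at hlo hhi
    refine P.exceptional_false ?_ hζ C S hd
    obtain ⟨k, hk⟩ := P.cyc.hpow
    rcases k with _ | _ | k
    · norm_num at hk; omega
    · norm_num at hk; omega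
    · rw [pow_succ, pow_succ, pow_succ] at hk
      have := Nat.one_le_two_pow (n := k)
      omega
  have hz : ∀ j, zval X Y (t j) = 2 * ((-1) ^ ((j : ℕ) + 1) * g j) := by
    intro j
    rw [zval, S.x0 _ (S.sS j) (S.sE j), zero_add, Finset.sum_eq_single j (fun k _ hk => by
      rw [S.y0 k _ (S.sS j) (fun e => S.sE j (S.Psub k e)) (fun e => hk (hinj e).symm),
        mul_zero]) (by simp), S.ys]
  have hcover : bset B = oddSet B X ∪ Finset.univ.image t := by
    refine Finset.Subset.antisymm (fun χ hχ => ?_)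
      (Finset.union_subset S.sub (Finset.image_subset_iff.2 fun j _ => S.sS j))
    by_contra hn
    rw [Finset.mem_union, not_or] at hn
    refine (P.height_z hζ C (mem_bset.1 hχ)).2.2 ?_
    rw [zval, S.x0 χ hχ hn.1, zero_add, Finset.sum_eq_zero fun j _ => by
      rw [S.y0 j χ hχ (fun e => hn.1 (S.Psub j e))
        (fun e => hn.2 (e ▸ Finset.mem_image_of_mem t (Finset.mem_univ j))), mul_zero], mul_zero]
  have hdisj : Disjoint (oddSet B X) (Finset.univ.image t) := by
    rw [Finset.disjoint_right]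
    intro χ hχ
    obtain ⟨j, -, rfl⟩ := Finset.mem_image.1 hχ
    exact S.sE j
  have hcard : (bset B).card = h + 3 := by
    rw [hcover, Finset.card_union_of_disjoint hdisj, S.card, Finset.card_image_of_injective _ hinj,
      Finset.card_univ, Fintype.card_fin]
    omega
  refine ⟨hcard, by have := P.rank_le; omega, ?_, fun χ hχ => ?_⟩
  · rw [Nat.card_congr (Equiv.subtypeEquivRight fun χ =>
      (show χ ∈ B ∧ blockHeight 2 B (χ : G → ℂ) = 0 ↔ χ ∈ oddSet B X by
        simp only [oddSet, Finset.mem_filter, mem_bset]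
        exact and_congr_right fun hχ => (P.height_z hζ C hχ).1.symm)),
      Nat.card_eq_finsetCard, S.card]
  · obtain ⟨hz0, hdvd, -⟩ := P.height_z hζ C hχ
    have hm := mem_bset.2 hχ
    rw [hcover, Finset.mem_union] at hm
    rcases hm with hm | hm
    · have := hz0.1 ((S.par χ (mem_bset.2 hχ)).1 hm)
      omega
    · obtain ⟨j, -, rfl⟩ := Finset.mem_image.1 hm
      rw [hz j] at hdvd
      by_contra hgt
      push Not at hgt
      have h4 : (4 : ℤ) ∣ 2 * ((-1) ^ ((j : ℕ) + 1) * g j) :=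
        (show (4 : ℤ) = 2 ^ 2 by norm_num) ▸ (pow_dvd_pow 2 hgt).trans hdvd
      rcases S.funit j with e | e <;> rcases neg_one_pow_eq_or ℤ ((j : ℕ) + 1) with e' | e' <;>
        rw [e, e'] at h4 <;> omega

theorem dihedral_block {G : Type u} [Group G] [Finite G] {M : Ideal AlgInt}
    (hM : IsPModular 2 M) {B : Set (IrrCharacter G)} (hB : IsPBlock M B) {D : Subgroup G}
    (hD : IsDefectGroup 2 M B D) {n : ℕ} (hn : 3 ≤ n)
    (hdih : Nonempty (D ≃* DihedralGroup (2 ^ (n - 1)))) :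
    Nat.card B = 2 ^ (n - 2) + 3 ∧ 1 ≤ blockRank 2 B ∧ blockRank 2 B ≤ 3 ∧
      Nat.card {χ : IrrCharacter G // χ ∈ B ∧ blockHeight 2 B (χ : G → ℂ) = 0} = 4 ∧
      ∀ χ ∈ B, blockHeight 2 B (χ : G → ℂ) ≤ 1 := by
  classical
  haveI := Fintype.ofFinite G
  set h := 2 ^ (n - 2) with hh
  have hN : 2 ^ (n - 1) = 2 * h := by
    rw [hh, ← pow_succ', show n - 2 + 1 = n - 1 by omega]
  rw [hN] at hdih
  obtain ⟨e⟩ := hdih
  have h0 : 0 < h := Nat.two_pow_pos _
  haveI : NeZero (2 * h) := ⟨by omega⟩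
  set σ : G := ((e.symm (DihedralGroup.r 1) : D) : G) with hσ
  have hd : DG D σ h := by
    refine ⟨⟨⟨n - 3, by rw [hh, show n - 3 + 1 = n - 2 by omega]⟩, ?_⟩, ⟨e⟩, Subtype.prop _⟩
    rw [hσ, Subgroup.orderOf_coe, MulEquiv.orderOf_eq, DihedralGroup.orderOf_r_one]
  haveI := Fintype.ofFinite (zc σ h)
  obtain ⟨f, a, s, L⟩ := exists_loc hM hB hD hd
  obtain ⟨ψ₀, T, P⟩ := L.exists_par
  obtain ⟨h1, h2, h3, h4⟩ := P.invariants
  exact ⟨(card_bset B).symm.trans h1, blockRank_pos hM hB, h2, h3, h4⟩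

end CfsgLib.Blocks.DihBlock
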