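import Cfsg.Agent.Lib.Blocks.Star.Nilpotent
import Cfsg.Agent.Lib.Blocks.AbelianRankOne

/-!
# Pairings of a subgroup containing the centralizer of an element
-/

namespace CfsgLib.Blocks.DihBlock

open Cfsg CfsgLib.CharTheory
open scoped ComplexConjugate

set_option linter.unusedVariables false
set_option linter.unusedSimpArgs false
set_option linter.style.haveILetI false
set_option linter.unusedSectionVars false

universe u

variable {p : ℕ} {M : Ideal AlgInt} {G : Type u} [Group G] [Fintype G]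

theorem pairVal_sum {ι : Type*} (a : BrauerPairIdx G) (s : Finset ι) (r : ι → ℂ)
    (F : ι → G → ℂ) (g : G) :
    pairVal a (fun y => ∑ i ∈ s, r i * F i y) g = ∑ i ∈ s, r i * pairVal a (F i) g := by
  simp only [pairVal, Finset.mul_sum]
  rw [Finset.sum_comm]
  exact Finset.sum_congr rfl fun i _ => Finset.sum_congr rfl fun h _ => by ring

theorem isClassFunction_sum {ι : Type*} (s : Finset ι) (r : ι → ℂ) (F : ι → G → ℂ)
    (h : ∀ i, IsClassFunction G (F i)) :
    IsClassFunction G (fun y => ∑ i ∈ s, r i * F i y) := fun x y =>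
  Finset.sum_congr rfl fun i _ => by rw [h i x y]

/-- The pairing only depends on the values on the section. -/
theorem pairVal_congr (hM : IsPModular p M) {a : BrauerPairIdx G} {x : G}
    (ha : a ∈ pairsAt M (Subgroup.zpowers x)) {F F' : G → ℂ} (hF : IsClassFunction G F)
    (hF' : IsClassFunction G F') (h : ∀ y ∈ regC p x, F (x * y) = F' (x * y)) {c : G}
    (hc : c ∈ regC p x) : pairVal a F (x * c) = pairVal a F' (x * c) := by
  classical
  obtain ⟨R, f⟩ := a
  obtain ⟨h1, h2⟩ := mem_pairsAt.1 ha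
  change R = Subgroup.zpowers x at h1
  subst h1
  haveI := Fintype.ofFinite (Subgroup.centralizer ((Subgroup.zpowers x : Subgroup G) : Set G))
  have hC := isCentr_zpowers x
  obtain ⟨hcC, hcr⟩ := (regC_iff_coe hC).1 hc
  rw [show c = ((⟨c, hcC⟩ : Subgroup.centralizer ((Subgroup.zpowers x : Subgroup G) : Set G)) : G)
    from rfl, pairVal_eq hC hF, pairVal_eq hC hF']
  exact blockPart_congr_regular hM h2
    (fun y hy => h y ((regC_iff_coe hC).2 ⟨y.2, hy⟩)) hcr

/-- The pairing of a pair vanishes off its block. -/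
theorem pairVal_off' (hM : IsPModular p M) {B : Set (IrrCharacter G)} {χ : IrrCharacter G}
    (hχ : χ ∉ B) {x : G} (hx : ∃ k, orderOf x = p ^ k) {a : BrauerPairIdx G}
    (ha : a ∈ pairsAt M (Subgroup.zpowers x)) (hp : IsBrauerPairOf p M B a.1 a.2) {c : G}
    (hc : c ∈ regC p x) : pairVal a (χ : G → ℂ) (x * c) = 0 :=
  pairVal_off hM (blockOf_isPBlock χ) (mem_blockOf_self hM χ) hx ha
    (fun h => hχ (by rw [pairOf_block_unique hM hp h]; exact mem_blockOf_self hM χ)) hc

/-- The expansion of the square of a class function. -/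
theorem conv_expand (a : IrrCharacter G → ℂ) (g : G) :
    conv (fun y => ∑ χ : IrrCharacter G, a χ * (χ : G → ℂ) y)
        (fun y => ∑ χ : IrrCharacter G, a χ * (χ : G → ℂ) y) g =
      ∑ χ : IrrCharacter G, (Nat.card G : ℂ) / (χ : G → ℂ) 1 * a χ ^ 2 * (χ : G → ℂ) g := by
  classical
  have e : ∀ χ ψ : IrrCharacter G, ∑ x, (χ : G → ℂ) x * (ψ : G → ℂ) (x⁻¹ * g) =
      if χ = ψ then (Nat.card G : ℂ) / (ψ : G → ℂ) 1 * (ψ : G → ℂ) g else 0 := by
    intro χ ψ
    have h1 : ∑ x, (χ : G → ℂ) x * (ψ : G → ℂ) (x⁻¹ * g) =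
        ∑ x, (fun y => (χ : G → ℂ) y⁻¹) x * (ψ : G → ℂ) (x * g) :=
      Fintype.sum_equiv (Equiv.inv G) _ _ fun x => by simp
    have hcl : IsClassFunction G (fun y => (χ : G → ℂ) y⁻¹) := fun y t => by
      show (χ : G → ℂ) (t * y * t⁻¹)⁻¹ = (χ : G → ℂ) y⁻¹
      rw [show (t * y * t⁻¹)⁻¹ = t * y⁻¹ * t⁻¹ by group]
      exact irr_isClassFun χ y⁻¹ t
    rw [h1, sum_classFun_mul_shift hcl ψ g]
    have h2 : ∑ y, (χ : G → ℂ) y⁻¹ * (ψ : G → ℂ) y =
        (Nat.card G : ℂ) * classInner (ψ : G → ℂ) (χ : G → ℂ) := by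
      rw [classInner, mul_inv_cancel_left₀ (Nat.cast_ne_zero.2 Nat.card_pos.ne')]
      exact Finset.sum_congr rfl fun y _ => by rw [irr_conjInv]; ring
    rw [omega, h2]
    split_ifs with h
    · rw [h, classInner_irr_self ψ.2, mul_one]
    · rw [classInner_irr_ne ψ.2 χ.2 (fun he => h (Subtype.ext he).symm)]
      simp
  simp only [conv, Finset.sum_mul_sum]
  rw [Finset.sum_comm]
  refine Finset.sum_congr rfl fun χ _ => ?_
  rw [Finset.sum_comm, Finset.sum_congr rfl fun ψ _ => show
      ∑ x, a χ * (χ : G → ℂ) x * (a ψ * (ψ : G → ℂ) (x⁻¹ * g)) =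
        a χ * a ψ * ∑ x, (χ : G → ℂ) x * (ψ : G → ℂ) (x⁻¹ * g) by
      rw [Finset.mul_sum]; exact Finset.sum_congr rfl fun x _ => by ring]
  simp only [e, mul_ite, mul_zero, Finset.sum_ite_eq, Finset.mem_univ, if_true]
  ring

theorem pPart_conj (hp : p.Prime) {u v y y' x : G} (hy : y ∈ regC p u) (hy' : y' ∈ regC p v)
    (hu : ∃ k, orderOf u = p ^ k) (hv : ∃ k, orderOf v = p ^ k)
    (h : x * (u * y) * x⁻¹ = v * y') : x * u * x⁻¹ = v := by
  obtain ⟨h1, h2⟩ := mem_regC.1 hy
  obtain ⟨h1', h2'⟩ := mem_regC.1 hy'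
  refine (pPart_unique hp ((Commute.conj_iff x).2 h1) h1' ?_ hv (by rwa [conj_orderOf]) h2' ?_).1
  · obtain ⟨k, hk⟩ := hu
    exact ⟨k, by rw [conj_orderOf, hk]⟩
  · rw [← h]; group

/-! ### a subgroup containing the centralizer -/

section Sub

variable {H : Subgroup G} [Fintype H]

theorem isClassFunction_restrict (χ : IrrCharacter G) :
    IsClassFunction H (fun k : H => (χ : G → ℂ) k) := fun x y =>
  irr_isClassFun χ (x : G) (y : G)

theorem pairVal_up (b : BrauerPairIdx H)
    (hb : Subgroup.centralizer ((b.1.map H.subtype : Subgroup G) : Set G) ≤ H) (F : G → ℂ)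
    (g : H) : pairVal (upIdx b hb) F (g : G) = pairVal b (fun k : H => F k) g := by
  classical
  obtain ⟨R, f⟩ := b
  unfold pairVal
  symm
  refine Finset.sum_bij_ne_zero (fun k _ _ => (k : G)) (fun k _ _ => Finset.mem_univ _)
    (fun x _ _ y _ _ h => Subtype.ext h) (fun y _ hy => ?_) (fun k _ _ => ?_)
  · have hyH : y ∈ H := by
      by_contra hn
      refine hy ?_
      show subgroupBlockCoeff (Subgroup.centralizer ((R.map H.subtype : Subgroup G) : Set G))
        (irrPull (upE R hb) '' f) y * _ = 0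
      rw [subgroupBlockCoeff_eq, sext_off _ _ (fun h => hn (hb h)), zero_mul]
    refine ⟨⟨y, hyH⟩, Finset.mem_univ _, ?_, rfl⟩
    show subgroupBlockCoeff (Subgroup.centralizer (R : Set H)) f ⟨y, hyH⟩ * _ ≠ 0
    rw [← subgroupBlockCoeff_up R hb f]
    exact hy
  · show subgroupBlockCoeff (Subgroup.centralizer (R : Set H)) f k * _ = _
    rw [← subgroupBlockCoeff_up R hb f]
    rfl

theorem cent_mul (hp : p.Prime) {u : H} (hu : ∃ k, orderOf u = p ^ k)
    (hcu : ∀ x : G, Commute x (u : G) → x ∈ H) {y : H} (hy : y ∈ regC p u) :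
    Subgroup.centralizer ({((u * y : H) : G)} : Set G) ≤ H := by
  intro x hx
  have hy' : (y : G) ∈ regC p (u : G) := mem_regC.2
    ⟨(mem_regC.1 hy).1.map H.subtype, by rw [Subgroup.orderOf_coe]; exact (mem_regC.1 hy).2⟩
  have hu' : ∃ k, orderOf (u : G) = p ^ k := by
    obtain ⟨k, hk⟩ := hu; exact ⟨k, by rw [Subgroup.orderOf_coe, hk]⟩
  have h := pPart_conj hp hy' hy' hu' hu' (x := x) (by
    rw [← Subgroup.coe_mul, Subgroup.mem_centralizer_singleton_iff.1 hx, mul_inv_cancel_right])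
  exact hcu x (mul_inv_eq_iff_eq_mul.1 h)

/-- Second orthogonality in the subgroup. -/
theorem sum_irr_down {g g' : H} (hfus : ∀ x : G, x * (g : G) * x⁻¹ = g' → x ∈ H)
    (hcent : Subgroup.centralizer ({(g : G)} : Set G) ≤ H) :
    ∑ χ : IrrCharacter G, (χ : G → ℂ) g * conj ((χ : G → ℂ) g') =
      ∑ ψ : IrrCharacter H, (ψ : H → ℂ) g * conj ((ψ : H → ℂ) g') := by
  classical
  rw [sum_irr_mul_conj, sum_irr_mul_conj]
  have hiff : IsConj (g : G) g' ↔ IsConj g g' := by
    constructor
    · intro h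
      obtain ⟨x, hx⟩ := isConj_iff.1 h
      exact isConj_iff.2 ⟨⟨x, hfus x hx⟩, Subtype.ext hx⟩
    · intro h
      exact MonoidHom.map_isConj H.subtype h
  refine if_congr hiff (congrArg _ (Nat.card_congr ?_)) rfl
  exact
    { toFun := fun x => ⟨⟨x, hcent x.2⟩, Subgroup.mem_centralizer_singleton_iff.2
        (Subtype.ext (Subgroup.mem_centralizer_singleton_iff.1 x.2))⟩
      invFun := fun x => ⟨x.1, Subgroup.mem_centralizer_singleton_iff.2
        (congrArg Subtype.val (Subgroup.mem_centralizer_singleton_iff.1 x.2))⟩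
      left_inv := fun x => rfl
      right_inv := fun x => rfl }

/-- The pairing against the values at a section. -/
theorem kernel_one (hM : IsPModular p M) {u v y : H} (hu : ∃ k, orderOf u = p ^ k)
    (hv : ∃ k, orderOf v = p ^ k) (hcu : ∀ x : G, Commute x (u : G) → x ∈ H)
    (hfus : ∀ x : G, x * (u : G) * x⁻¹ = v → x ∈ H) (hy : y ∈ regC p v) {a : BrauerPairIdx H}
    (ha : a ∈ pairsAt M (Subgroup.zpowers u)) {c : H} (hc : c ∈ regC p u) :
    ∑ χ : IrrCharacter G, pairVal a (fun k : H => (χ : G → ℂ) k) (u * c) *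
        conj ((χ : G → ℂ) ((v * y : H) : G)) =
      ∑ ψ : IrrCharacter H, pairVal a (ψ : H → ℂ) (u * c) * conj ((ψ : H → ℂ) (v * y)) := by
  simp only [mul_comm (pairVal a _ _) (conj _)]
  rw [← pairVal_sum, ← pairVal_sum]
  refine pairVal_congr hM ha (isClassFunction_sum _ _ _ fun χ => isClassFunction_restrict χ)
    (isClassFunction_sum _ _ _ fun ψ => irr_isClassFun ψ) (fun z hz => ?_) hc
  simp only [mul_comm (conj _)]
  refine sum_irr_down (g := u * z) (g' := v * y) (fun x hx => ?_) (cent_mul hM.1 hu hcu hz)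
  refine hfus x (pPart_conj hM.1 (y := (z : G)) (y' := (y : G))
    (mem_regC.2 ⟨(mem_regC.1 hz).1.map H.subtype,
      by rw [Subgroup.orderOf_coe]; exact (mem_regC.1 hz).2⟩)
    (mem_regC.2 ⟨(mem_regC.1 hy).1.map H.subtype,
      by rw [Subgroup.orderOf_coe]; exact (mem_regC.1 hy).2⟩) ?_ ?_ hx)
  · obtain ⟨k, hk⟩ := hu; exact ⟨k, by rw [Subgroup.orderOf_coe, hk]⟩
  · obtain ⟨k, hk⟩ := hv; exact ⟨k, by rw [Subgroup.orderOf_coe, hk]⟩

/-- The pairings at two sections. -/
theorem kernel (hM : IsPModular p M) {u v : H} (hu : ∃ k, orderOf u = p ^ k)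
    (hv : ∃ k, orderOf v = p ^ k) (hcu : ∀ x : G, Commute x (u : G) → x ∈ H)
    (hfus : ∀ x : G, x * (u : G) * x⁻¹ = v → x ∈ H) {a a' : BrauerPairIdx H}
    (ha : a ∈ pairsAt M (Subgroup.zpowers u)) (ha' : a' ∈ pairsAt M (Subgroup.zpowers v))
    {c d : H} (hc : c ∈ regC p u) (hd : d ∈ regC p v) :
    ∑ χ : IrrCharacter G, pairVal a (fun k : H => (χ : G → ℂ) k) (u * c) *
        conj (pairVal a' (fun k : H => (χ : G → ℂ) k) (v * d)) =
      ∑ ψ : IrrCharacter H, pairVal a (ψ : H → ℂ) (u * c) *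
        conj (pairVal a' (ψ : H → ℂ) (v * d)) := by
  apply (starRingEnd ℂ).injective
  simp only [map_sum, map_mul, Complex.conj_conj]
  rw [← pairVal_sum, ← pairVal_sum]
  refine pairVal_congr hM ha' (isClassFunction_sum _ _ _ fun χ => isClassFunction_restrict χ)
    (isClassFunction_sum _ _ _ fun ψ => irr_isClassFun ψ) (fun z hz => ?_) hd
  apply (starRingEnd ℂ).injective
  simp only [map_sum, map_mul, Complex.conj_conj]
  exact kernel_one hM hu hv hcu hfus hz ha hc

/-- The pairing against the values off the section. -/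
theorem kernel_zero (hM : IsPModular p M) {u : H} {g : G}
    (hg : ∀ y ∈ regC p u, ¬ IsConj ((u * y : H) : G) g) {a : BrauerPairIdx H}
    (ha : a ∈ pairsAt M (Subgroup.zpowers u)) {c : H} (hc : c ∈ regC p u) :
    ∑ χ : IrrCharacter G, pairVal a (fun k : H => (χ : G → ℂ) k) (u * c) *
        conj ((χ : G → ℂ) g) = 0 := by
  classical
  simp only [mul_comm (pairVal a _ _) (conj _)]
  rw [← pairVal_sum]
  refine (pairVal_congr hM ha (isClassFunction_sum _ _ _ fun χ => isClassFunction_restrict χ)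
    (F' := fun _ => 0) (fun _ _ => rfl) (fun z hz => ?_) hc).trans (by simp [pairVal])
  simp only [mul_comm (conj _)]
  rw [sum_irr_mul_conj, if_neg (hg z hz)]

end Sub

/-- The block of `C(Q)` below a maximal pair, `Q` being centralized by its group. -/
theorem exists_local_centralized (hM : IsPModular p M) {B : Set (IrrCharacter G)} {P : Subgroup G}
    {e : Set (IrrCharacter (Subgroup.centralizer (P : Set G)))}
    (hmax : IsMaximalBrauerPair p M B P e) {Q : Subgroup G} (hQP : Q ≤ P)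
    (hPC : P ≤ Subgroup.centralizer (Q : Set G))
    [Fintype (Subgroup.centralizer (Q : Set G))] :
    ∃ f : Set (IrrCharacter (Subgroup.centralizer (Q : Set G))),
      IsInducedBlock M (Subgroup.centralizer (Q : Set G)) f B ∧
      blockDefect p f = blockDefect p B ∧
      ∃ (a : BrauerPairIdx (Subgroup.centralizer (Q : Set G)))
        (ha : Subgroup.centralizer ((a.1.map (Subgroup.centralizer (Q : Set G)).subtype :
          Subgroup G) : Set G) ≤ Subgroup.centralizer (Q : Set G)),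
        upIdx a ha = ⟨P, e⟩ ∧ IsMaximalBrauerPair p M f a.1 a.2 := by
  classical
  have hP : IsPGroup p P := hmax.1.1.1
  have he := hmax.1.1.2
  obtain ⟨f, hstep⟩ := exists_normal_below hM hP hQP
    (hPC.trans (Subgroup.centralizer_le_normalizer _)) he
  have hf : IsPBlock M f := hstep.1.2
  obtain ⟨a, ha, hup, hblk⟩ := exists_upIdx (M := M) hPC (centralizer_anti hQP) he
  have hcoef : ∀ t : Subgroup.centralizer (Q : Set G), blockCoeff f t =
      subgroupBlockCoeff (Subgroup.centralizer (Q : Set G)) f (t : G) := fun t => by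
    rw [subgroupBlockCoeff_eq, sext_coe]
  have hpair := pairOf_of_step hM hf hcoef hblk hup hstep
  have hmax' := maximal_down hM hup hmax hpair
  have hpairG : IsBrauerPairOf p M B Q f :=
    (pairOf_subpair_iff hM (a := ⟨Q, f⟩) (b := ⟨P, e⟩)
      (Relation.ReflTransGen.single hstep) B).2 hmax.1
  refine ⟨f, (induced_centralizer_iff hM (hP.to_le hQP)).2 hpairG, ?_, a, ha, hup, hmax'⟩
  refine Nat.pow_right_injective hM.1.two_le (?_ : p ^ blockDefect p f = p ^ blockDefect p B)
  rw [← card_defectGroup hM hf (maximal_isDefectGroup hM hmax'),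
    ← card_defectGroup hM hmax.1.2.1 (maximal_isDefectGroup hM hmax),
    ← le_map_subtype_of_eq hup, Subgroup.card_map_of_injective Subtype.coe_injective]

end CfsgLib.Blocks.DihBlock
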